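import Cfsg.Agent.Lib.OddLocal.PLength.Core
import Cfsg.Agent.Lib.OddLocal.Ten.PLengthTools
import Cfsg.Agent.Lib.OddLocal.Ten.Quotient
import Cfsg.Agent.Lib.LocalEven.HSubgroups
import Mathlib.GroupTheory.SpecificGroups.ZGroup

/-!
In an odd-order group `H R` with coprime action, if some subgroup `R₀` of prime order of `R` has a
`Z`-group of fixed points on `H`, then `⁅H, R⁆` has `p`-length at most one.
-/

set_option autoImplicit false
set_option linter.unusedSectionVars false

namespace CfsgLib.OddLocal.PLen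

open Cfsg Subgroup CfsgLib.PGroup CfsgLib.Solvable CfsgLib.OddLocal.BG
open scoped commutatorElement Pointwise

universe u

variable {p : ℕ} [hp : Fact p.Prime]

/-- `p`-length one lifts over a kernel of order prime to `p`. -/
theorem pLengthLE_one_of_surjective {A B : Type*} [Group A] [Group B] [Finite A] [Finite B]
    (f : A →* B) (hf : Function.Surjective f) (hker : (Nat.card f.ker).Coprime p)
    (h : PLengthLE p 1 B) : PLengthLE p 1 A := by
  have hn1 : ((useries p B 1).comap f).Normal := (useries_normal p B 1).comap f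
  have h1 : (useries p B 1).comap f ≤ useries p A 1 := by
    refine le_series_succ (n := 0) ⟨fun _ => ?_, fun hn => absurd Even.zero hn⟩
    rw [show useries p A 0 = ⊥ from rfl, relIndex_bot_left]
    have e1 := card_mul_index ((useries p B 1).comap f)
    rw [index_comap_of_surjective _ hf, ← card_mul_index f.ker, index_ker,
      MonoidHom.range_eq_top.2 hf, card_top, ← card_mul_index (useries p B 1), ← mul_assoc] at e1
    rw [Nat.eq_of_mul_eq_mul_right (Nat.pos_of_ne_zero index_ne_zero_of_finite) e1, useries_one]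
    exact hker.mul_left (CfsgLib.Cores.coprime_card_pPrimeCore p)
  have hn2 : ((useries p B 2).comap f).Normal := (useries_normal p B 2).comap f
  have h2 : (useries p B 2).comap f ≤ useries p A 2 := by
    refine le_series_succ (n := 1) (((stepCond_series (p := p) (G := B) 1)).of_dvd ?_)
    refine (relIndex_dvd_of_le_left _ h1).trans ?_
    rw [relIndex_comap, map_comap_eq_self_of_surjective hf]
  refine CfsgLib.OddLocal.Ten.pLengthLE_one_of_index (Nat.Coprime.coprime_dvd_left
    ((index_dvd_of_le h2).trans ?_) (CfsgLib.OddLocal.Ten.index_useries_two h))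
  rw [index_comap_of_surjective _ hf]

/-- With no `p'`-core, `p`-length one says that the `p`-core has index prime to `p`. -/
theorem index_pCore_of_pLength {A : Type*} [Group A] [Finite A] (hO : pPrimeCore p A = ⊥)
    (h : PLengthLE p 1 A) : ((pCore p A).index).Coprime p := by
  have h2 := CfsgLib.OddLocal.Ten.index_pPrimePCore h
  refine h2.coprime_dvd_left (index_dvd_of_le ?_)
  have hpn : (pPrimePCore p A).Normal :=
    Subgroup.Normal.comap (Subgroup.sSup_normal _ fun _ h => h.1) _
  refine CfsgLib.Cores.le_pCore ?_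
  have hN : Function.Injective (QuotientGroup.mk' (pPrimeCore p A)) := by
    rw [← MonoidHom.ker_eq_bot_iff, QuotientGroup.ker_mk', hO]
  exact IsPGroup.comap_of_injective (CfsgLib.Cores.isPGroup_pCore p) _ hN

/-- The induction hypothesis. -/
def Smaller (p n : ℕ) : Prop :=
  ∀ (G : Type u) [Group G] [Finite G], Group.IsSolvable G → Odd (Nat.card G) → ∀ H R R₀ : Subgroup G,
    Nat.card H < n → R ≤ normalizer (H : Set G) → (Nat.card R).Coprime (Nat.card H) → R₀ ≤ R →
    (Nat.card R₀).Prime → IsZGroup ↥(H ⊓ centralizer (R₀ : Set G)) → PLengthLE p 1 ↥⁅H, R⁆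

/-- The hypotheses pass to the quotient by a normal subgroup in `H`. -/
theorem quotient_step {G : Type u} [Group G] [Finite G] (hsol : Group.IsSolvable G)
    (hodd : Odd (Nat.card G)) (H R R₀ N : Subgroup G) [H.Normal] [N.Normal] (hN : N ≠ ⊥) (hNH : N ≤ H)
    (hcop : (Nat.card R).Coprime (Nat.card H)) (hR₀ : R₀ ≤ R) (hR₀p : (Nat.card R₀).Prime)
    (hZ : IsZGroup ↥(H ⊓ centralizer (R₀ : Set G))) (hHR : ⁅H, R⁆ = H)
    (ih : Smaller.{u} p (Nat.card H)) : PLengthLE p 1 ↥(H.map (QuotientGroup.mk' N)) := by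
  set π := QuotientGroup.mk' N
  have hHn : (H.map π).Normal := Subgroup.Normal.map inferInstance π (QuotientGroup.mk'_surjective N)
  have hlt : Nat.card ↥(H.map π) < Nat.card H := by
    have h1 : Nat.card N * Nat.card ↥(H.map π) = Nat.card H := by
      rw [← CfsgLib.PGroup.relIndex_eq_card_map, ← relIndex_bot_left, ← relIndex_bot_left,
        relIndex_mul_relIndex ⊥ N H bot_le hNH]
    rw [← h1]
    exact lt_mul_of_one_lt_left Nat.card_pos ((one_lt_card_iff_ne_bot N).2 hN)
  have hR₀c : (Nat.card R₀).Coprime (Nat.card H) := hcop.coprime_dvd_left (card_dvd_of_le hR₀)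
  have hR₀card : Nat.card ↥(R₀.map π) = Nat.card R₀ := by
    have hinj : Function.Injective (π.comp R₀.subtype) := by
      refine (injective_iff_map_eq_one _).2 fun x hx => Subtype.ext ?_
      have h1 : (x : G) ∈ R₀ ⊓ H := ⟨x.2, hNH ((QuotientGroup.eq_one_iff _).1 hx)⟩
      rwa [disjoint_of_coprime hR₀c, mem_bot] at h1
    rw [← Subgroup.range_subtype R₀, ← MonoidHom.range_comp]
    exact (Nat.card_congr (MonoidHom.ofInjective hinj).toEquiv).symm.trans (by rw [Subgroup.range_subtype])
  have h := ih (G ⧸ N) (Group.isSolvable_of_surjective (QuotientGroup.mk'_surjective N))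
    (hodd.of_dvd_nat (card_quotient_dvd_card N)) (H.map π) (R.map π) (R₀.map π) hlt
    (by rw [normalizer_eq_top_iff.2 hHn]; exact le_top)
    ((hcop.coprime_dvd_left (Subgroup.card_map_dvd _ _)).coprime_dvd_right (Subgroup.card_map_dvd _ _))
    (map_mono hR₀) (by rw [hR₀card]; exact hR₀p) ?_
  · rwa [← map_commutator, hHR] at h
  have : IsZGroup ↥(H ⊓ centralizer (R₀ : Set G)) := hZ
  let f : ↥(H ⊓ centralizer (R₀ : Set G)) →* ↥(H.map π ⊓ centralizer (R₀.map π : Set (G ⧸ N))) :=
    MonoidHom.mk' (fun x => ⟨π x, ⟨mem_map_of_mem π x.2.1, mem_centralizer_iff.2 (by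
        rintro _ ⟨a, ha, rfl⟩
        rw [← map_mul, ← map_mul, mem_centralizer_iff.1 x.2.2 a ha])⟩⟩)
      fun x y => Subtype.ext (map_mul π _ _)
  refine IsZGroup.of_surjective (f := f) ?_
  rintro ⟨_, ⟨h, hh, rfl⟩, hc⟩
  obtain ⟨n, hn, hnc⟩ := exists_mul_mem_centralizer R₀ N (by rw [normalizer_eq_top_iff.2 ‹N.Normal›]; exact le_top)
    (hR₀c.coprime_dvd_right (card_dvd_of_le hNH)) (Or.inr (isSolvable_of_le (inferInstance : Group.IsSolvable H) hNH))
    h (fun a ha => by
      rw [← QuotientGroup.eq_one_iff, ← QuotientGroup.mk'_apply, map_commutatorElement,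
        commutatorElement_eq_one_iff_mul_comm]
      exact mem_centralizer_iff.1 hc _ (mem_map_of_mem π ha))
  refine ⟨⟨n * h, mul_mem (hNH hn) hh, hnc⟩, Subtype.ext ?_⟩
  show π (n * h) = π h
  rw [map_mul, show π n = 1 from (QuotientGroup.eq_one_iff n).2 hn, one_mul]

/-- The main step, in a group in which `H` is normal. -/
theorem step {G : Type u} [Group G] [Finite G] (hsol : Group.IsSolvable G) (hodd : Odd (Nat.card G))
    (H R R₀ : Subgroup G) [hHn : H.Normal] (hcop : (Nat.card R).Coprime (Nat.card H)) (hR₀ : R₀ ≤ R)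
    (hR₀p : (Nat.card R₀).Prime) (hZ : IsZGroup ↥(H ⊓ centralizer (R₀ : Set G))) (hHR : ⁅H, R⁆ = H)
    (hpH : p ∣ Nat.card H) (ih : Smaller.{u} p (Nat.card H)) : PLengthLE p 1 H := by
  classical
  have htop : ∀ {N : Subgroup G}, N.Normal → ∀ K : Subgroup G, K ≤ normalizer (N : Set G) := fun hN K => by
    rw [normalizer_eq_top_iff.2 hN]; exact le_top
  have hp2 : p ≠ 2 := fun h => Nat.not_even_iff_odd.2 hodd
    (even_iff_two_dvd.2 ((h ▸ hpH).trans (card_subgroup_dvd_card H)))
  have hsolH : Group.IsSolvable H := inferInstance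
  have hprimeG : ∀ {q : ℕ}, q.Prime → q ∣ Nat.card H → q ≠ 2 := fun hq hd h => Nat.not_even_iff_odd.2 hodd
    (even_iff_two_dvd.2 ((h ▸ hd).trans (card_subgroup_dvd_card H)))
  -- reduce to a trivial `p'`-core
  by_cases hO : pPrimeCore p H = ⊥
  swap
  · have := CfsgLib.Cores.pPrimeCore_characteristic (G := H) p
    set N := (pPrimeCore p H).map H.subtype with hNdef
    have : N.Normal := ConjAct.normal_of_characteristic_of_normal
    have hN : N ≠ ⊥ := fun h => hO ((Subgroup.map_eq_bot_iff_of_injective _ H.subtype_injective).1 h)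
    have hq := quotient_step (p := p) hsol hodd H R R₀ N hN (map_subtype_le _) hcop hR₀ hR₀p hZ hHR ih
    refine pLengthLE_one_of_surjective ((QuotientGroup.mk' N).subgroupMap H)
      (MonoidHom.subgroupMap_surjective _ _) ?_ hq
    refine (CfsgLib.Cores.coprime_card_pPrimeCore (G := H) p).coprime_dvd_left (card_dvd_of_le fun x hx => ?_)
    have h1 : (x : G) ∈ N := (QuotientGroup.eq_one_iff _).1 (congrArg Subtype.val hx)
    obtain ⟨y, hy, hyx⟩ := h1
    exact (Subtype.ext hyx : y = x) ▸ hy
  have hgoal : ((pCore p H).index).Coprime p → PLengthLE p 1 H := fun h =>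
    CfsgLib.OddLocal.Ten.pLengthLE_one_of_pPrimePCore (h.coprime_dvd_left (index_dvd_of_le (by
      intro x hx
      have : ((pCore p H).map (QuotientGroup.mk' (pPrimeCore p H))).Normal :=
        Subgroup.Normal.map (Subgroup.sSup_normal _ fun _ h => h.1) _ (QuotientGroup.mk'_surjective _)
      exact mem_comap.2 (CfsgLib.Cores.le_pCore ((CfsgLib.Cores.isPGroup_pCore p).map _)
        (mem_map_of_mem (QuotientGroup.mk' _) hx)))))
  apply hgoal
  have hpn : (pCore p H).Normal := Subgroup.sSup_normal _ fun _ h => h.1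
  have := CfsgLib.Cores.pCore_characteristic (G := H) p
  set V := (pCore p H).map H.subtype with hVdef
  have hVn : V.Normal := ConjAct.normal_of_characteristic_of_normal
  have hVH : V ≤ H := map_subtype_le _
  have hVp : IsPGroup p V := (CfsgLib.Cores.isPGroup_pCore p).map _
  have hCV : ∀ x ∈ H, x ∈ centralizer (V : Set G) → x ∈ V := fun x hx hc => by
    have h1 := CfsgLib.Solvable.centralizer_pCore_le (G := H) p hO
      (mem_centralizer_iff.2 fun v hv => Subtype.ext (mem_centralizer_iff.1 hc (v : G) (mem_map_of_mem _ hv)) :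
        (⟨x, hx⟩ : H) ∈ centralizer (pCore p H : Set H))
    exact mem_map_of_mem H.subtype h1
  have hpcore : ∀ L : Subgroup G, L ≤ H → L.Normal → IsPGroup p L → L ≤ V := fun L hLH hLn hLp => by
    have : (L.subgroupOf H).Normal := normal_subgroupOf
    rw [← map_subgroupOf_eq_of_le hLH]
    exact map_mono (CfsgLib.Cores.le_pCore (hLp.comap_subtype (K := H)))
  -- reduce to an elementary `O_p`
  by_cases hΦ : frattini V = ⊥
  swap
  · set N := (frattini V).map V.subtype with hNdef
    have : N.Normal := ConjAct.normal_of_characteristic_of_normal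
    have hN : N ≠ ⊥ := fun h => hΦ ((Subgroup.map_eq_bot_iff_of_injective _ V.subtype_injective).1 h)
    have hNV : N ≤ V := map_subtype_le _
    have hq := quotient_step (p := p) hsol hodd H R R₀ N hN (hNV.trans hVH) hcop hR₀ hR₀p hZ hHR ih
    set π := QuotientGroup.mk' N
    set f := π.subgroupMap H
    have hf : Function.Surjective f := MonoidHom.subgroupMap_surjective _ _
    have hfker : ∀ x : H, f x = 1 → (x : G) ∈ N := fun x hx =>
      (QuotientGroup.eq_one_iff _).1 (congrArg Subtype.val hx)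
    have hOq : pPrimeCore p ↥(H.map π) = ⊥ := by
      by_contra hne
      set L := pPrimeCore p ↥(H.map π) with hLdef
      obtain ⟨q, hqp, hqd⟩ := Nat.exists_prime_and_dvd fun e => hne (card_eq_one.1 e)
      have : Fact q.Prime := ⟨hqp⟩
      have hqne : q ≠ p := fun e => hp.out.ne_one (Nat.eq_one_of_dvd_coprimes
        (CfsgLib.Cores.coprime_card_pPrimeCore (G := ↥(H.map π)) p) (e.symm.dvd.trans hqd) dvd_rfl)
      have hqd' : q ∣ Nat.card ↥(L.comap f) := by
        refine hqd.trans ?_
        conv_lhs => rw [← map_comap_eq_self_of_surjective hf L]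
        exact Subgroup.card_map_dvd _ _
      obtain ⟨x, hx⟩ := exists_prime_orderOf_dvd_card' q hqd'
      have hcopx : (orderOf ((x : H) : G)).Coprime p := by
        rw [Subgroup.orderOf_coe, Subgroup.orderOf_coe, hx]; exact (Nat.coprime_primes hqp hp.out).2 hqne
      have hxc : ((x : H) : G) ∈ centralizer (V : Set G) := by
        refine CfsgLib.LocalEven.HSub.mem_centralizer_of_trivial_mod_frattini hVp
          (htop hVn ⊤ (mem_top _)) hcopx fun a b _ hb => ?_
        have h1 : f ⁅(x : H), ⟨(a : G), hVH a.2⟩⁆ ∈ L ⊓ ((pCore p H).map f) := by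
          obtain ⟨y, hy, hya⟩ := a.2
          have hy' : (⟨(a : G), hVH a.2⟩ : H) ∈ pCore p H := by
            rw [show (⟨(a : G), hVH a.2⟩ : H) = y from Subtype.ext hya.symm]; exact hy
          have hxL : f (x : H) ∈ L := x.2
          have hLn : L.Normal := inferInstance
          have hmn : ((pCore p H).map f).Normal := hpn.map f hf
          rw [map_commutatorElement]
          exact commutator_le_inf L ((pCore p H).map f) (commutator_mem_commutator hxL (mem_map_of_mem f hy'))
        have hd : L ⊓ (pCore p H).map f = ⊥ := by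
          refine disjoint_of_coprime ?_
          obtain ⟨k, hk⟩ := ((CfsgLib.Cores.isPGroup_pCore (G := H) p).map f).exists_card_eq
          rw [hk]
          exact (CfsgLib.Cores.coprime_card_pPrimeCore (G := ↥(H.map π)) p).pow_right k
        rw [hd, mem_bot] at h1
        have h2 := hfker _ h1
        obtain ⟨c, hc, hca⟩ := h2
        have e : a⁻¹ * b = a⁻¹ * c * a := Subtype.ext (by
          have hc' : (c : G) = ((x : H) : G) * a * ((x : H) : G)⁻¹ * (a : G)⁻¹ := hca
          rw [Subgroup.coe_mul, Subgroup.coe_inv, hb, Subgroup.coe_mul, Subgroup.coe_mul,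
            Subgroup.coe_inv, hc']
          group)
        rw [e]
        simpa using (inferInstance : (frattini V).Normal).conj_mem c hc a⁻¹
      have hxV := hCV _ (x : H).2 hxc
      obtain ⟨k, hk⟩ := hVp.exists_card_eq
      have h3 : orderOf ((x : H) : G) = 1 := Nat.eq_one_of_dvd_coprimes (hcopx.pow_right k) dvd_rfl
        (hk ▸ Subgroup.orderOf_dvd_natCard V hxV)
      rw [Subgroup.orderOf_coe, Subgroup.orderOf_coe, hx] at h3
      exact hqp.ne_one h3
    have h4 := index_pCore_of_pLength hOq hq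
    refine h4.coprime_dvd_left ?_
    rw [← index_comap_of_surjective _ hf]
    have hn : ((pCore p ↥(H.map π)).comap f).Normal :=
      Subgroup.Normal.comap (Subgroup.sSup_normal _ fun _ h => h.1) f
    refine index_dvd_of_le (CfsgLib.Cores.le_pCore ?_)
    refine IsPGroup.comap_of_ker_isPGroup (CfsgLib.Cores.isPGroup_pCore p) _ ?_
    refine IsPGroup.of_injective ((hVp.to_le hNV)) (((H.subtype).comp (f.ker).subtype).codRestrict N
      fun x => hfker x x.2) fun a b hab => ?_
    exact Subtype.ext (Subtype.ext (Subtype.mk.inj hab))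
  have hVe : IsElementaryAbelian p V := by
    refine CfsgLib.PGroup.isElementaryAbelian_mk (fun a ha b hb => ?_) fun a ha => ?_
    · have h1 : ⁅(⟨a, ha⟩ : V), ⟨b, hb⟩⁆ ∈ frattini V := CfsgLib.PGroup.commutator_le_frattini hVp
        (by rw [_root_.commutator_def]; exact commutator_mem_commutator (mem_top _) (mem_top _))
      rw [hΦ, mem_bot, commutatorElement_eq_one_iff_mul_comm] at h1
      exact congrArg Subtype.val h1
    · have h1 := CfsgLib.PGroup.pow_mem_frattini hVp (⟨a, ha⟩ : V)
      rw [hΦ, mem_bot] at h1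
      exact congrArg Subtype.val h1
  have hVc : IsMulCommutative V := hVe.1
  -- a generator of `R₀`
  set r := Nat.card R₀ with hr
  have : Fact r.Prime := ⟨hR₀p⟩
  obtain ⟨⟨t, htR₀⟩, ht'⟩ := (isCyclic_of_prime_card (p := r) hr.symm).exists_generator
  have hR₀t : zpowers t = R₀ := le_antisymm (zpowers_le.2 htR₀) fun x hx => by
    obtain ⟨i, hi⟩ := mem_zpowers_iff.1 (ht' ⟨x, hx⟩)
    exact mem_zpowers_iff.2 ⟨i, by simpa using congrArg Subtype.val hi⟩
  have ht : orderOf t = r := by rw [← Nat.card_zpowers, hR₀t]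
  have hr_ne : ∀ {q : ℕ}, q.Prime → q ∣ Nat.card H → r ≠ q := fun hq hd e =>
    hq.ne_one (Nat.eq_one_of_dvd_coprimes (hcop.coprime_dvd_left (card_dvd_of_le hR₀)) e.symm.dvd hd)
  have hr2 : r ≠ 2 := fun h => Nat.not_even_iff_odd.2 hodd
    (even_iff_two_dvd.2 (h ▸ card_subgroup_dvd_card R₀))
  have hZsub : ∀ {s : ℕ} [Fact s.Prime] (T : Subgroup G), IsPGroup s T → T ≤ H →
      IsCyclic ↥(T ⊓ centralizer (R₀ : Set G)) := by
    intro s _ T hT hTH
    have : IsZGroup ↥(H ⊓ centralizer (R₀ : Set G)) := hZ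
    have : IsZGroup ↥(T ⊓ centralizer (R₀ : Set G)) :=
      IsZGroup.of_injective (f := inclusion (inf_le_inf_right _ hTH)) (inclusion_injective _)
    have : Group.IsNilpotent ↥(T ⊓ centralizer (R₀ : Set G)) := (hT.to_le inf_le_left).isNilpotent
    infer_instance
  have hone : ∀ (T : Subgroup G), IsCyclic T → ∀ x ∈ T, x ^ p = 1 → x ≠ 1 → ∀ y ∈ T, y ^ p = 1 →
      y ∈ zpowers x := by
    intro T hT x hx hxp hx1 y hy hyp
    let K : Subgroup T :=
      { carrier := {z | z ^ p = 1}
        one_mem' := one_pow p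
        inv_mem' := fun {z} hz => show z⁻¹ ^ p = 1 by rw [inv_pow, show z ^ p = 1 from hz, inv_one]
        mul_mem' := fun {z w} hz hw => show (z * w) ^ p = 1 by
          rw [(show Commute z w from hT.isMulCommutative.is_comm.comm z w).mul_pow, show z ^ p = 1 from hz,
            show w ^ p = 1 from hw, one_mul] }
    have hK : Nat.card K ≤ p := by
      rw [← IsCyclic.exponent_eq_card]
      exact Nat.le_of_dvd hp.out.pos (Monoid.exponent_dvd_of_forall_pow_eq_one fun z => Subtype.ext z.2)
    have h1 : zpowers (⟨x, hx⟩ : T) = K := eq_of_le_of_card_ge (zpowers_le.2 (Subtype.ext hxp)) (by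
      rw [Nat.card_zpowers, Subgroup.orderOf_mk, orderOf_eq_prime hxp hx1]; exact hK)
    obtain ⟨i, hi⟩ := mem_zpowers_iff.1 (h1.ge (show (⟨y, hy⟩ : T) ∈ K from Subtype.ext hyp))
    exact mem_zpowers_iff.2 ⟨i, by simpa using congrArg Subtype.val hi⟩
  set π := QuotientGroup.mk' V
  -- the `p`-elements centralise every `O_q(H/V)`
  have key : ∀ q : ℕ, q.Prime → q ≠ p → ∀ W : Subgroup G, W.Normal → V ≤ W → W ≤ H →
      (∃ k, Nat.card ↥(W.map π) = q ^ k) → ∀ x ∈ H, (∃ k, orderOf x = p ^ k) → ∀ w ∈ W,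
      π x * π w = π w * π x := by
    intro q hq hqp W hWn hVW hWH hWq x hx hxo w hw
    have : Fact q.Prime := ⟨hq⟩
    by_cases hqH : q ∣ Nat.card H
    swap
    · obtain ⟨k, hk⟩ := hWq
      rcases Nat.eq_zero_or_pos k with rfl | hk0
      · have h1 : π w ∈ W.map π := mem_map_of_mem π hw
        rw [show W.map π = ⊥ from card_eq_one.1 (hk.trans (pow_zero q)), mem_bot] at h1
        rw [h1, one_mul, mul_one]
      · exact absurd ((dvd_pow_self q (by omega)).trans
          (hk ▸ ((Subgroup.card_map_dvd _ _).trans (card_dvd_of_le hWH)))) hqH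
    have hrq := hr_ne hq hqH
    have hrp := hr_ne hp.out hpH
    have hWR : (Nat.card R).Coprime (Nat.card W) := hcop.coprime_dvd_right (card_dvd_of_le hWH)
    obtain ⟨Q₀, hRQ⟩ := exists_invariant_sylow R W (htop hWn R) hWR
      (Or.inr (isSolvable_of_le hsolH hWH)) q
    set Q := (Q₀ : Subgroup W).map W.subtype with hQdef
    have hQW : Q ≤ W := map_subtype_le _
    have hQp : IsPGroup q Q := Q₀.isPGroup'.map _
    have hVQ : V ⊔ Q = W := by
      refine eq_of_le_of_card_ge (sup_le hVW hQW) ?_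
      have hd : V ⊓ Q = ⊥ := inf_eq_bot_of_ne (p := p) (q := q) hVp hQp hqp.symm
      rw [card_sup_of_disjoint (htop hVn Q) hd]
      obtain ⟨k, hk⟩ := hWq
      have h1 : Nat.card W = Nat.card V * q ^ k := by
        rw [← hk, ← CfsgLib.PGroup.relIndex_eq_card_map, ← relIndex_bot_left, ← relIndex_bot_left,
          relIndex_mul_relIndex ⊥ V W bot_le hVW]
      have h2 : q ^ k ∣ Nat.card Q := by
        rw [card_sylow_map]
        exact Q₀.pow_dvd_card_of_pow_dvd_card (h1 ▸ dvd_mul_left _ _)
      rw [h1]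
      exact Nat.mul_le_mul_left _ (Nat.le_of_dvd Nat.card_pos h2)
    have hVn' : ∀ K : Subgroup G, K ≤ normalizer (V : Set G) := htop hVn
    have hdecW : ∀ y ∈ W, ∃ v ∈ V, ∃ a ∈ Q, y = v * a := fun y hy =>
      exists_mul_of_mem_sup (hVn' Q) (hVQ.ge hy)
    set N := H ⊓ normalizer (Q : Set G) with hNdef
    -- Frattini argument
    have hfrat : ∀ h ∈ H, ∃ v ∈ V, ∃ n ∈ N, h = v * n := by
      intro h hh
      have hS : SylIn q Q W := sylIn_map Q₀
      have hS' : SylIn q (MulAut.conj h • Q) W := by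
        have := hS.conj h
        rwa [conj_smul_self_of_mem_normalizer (htop hWn ⊤ (mem_top h))] at this
      obtain ⟨g, hg, hgQ⟩ := hS'.exists_conj_eq hS
      obtain ⟨v, hv, a, ha, rfl⟩ := hdecW g hg
      rw [← conj_smul_conj_smul, conj_smul_self_of_mem_normalizer (le_normalizer ha)] at hgQ
      refine ⟨v, hv, v⁻¹ * h, Subgroup.mem_inf.2 ⟨mul_mem (inv_mem (hVH hv)) hh, ?_⟩, by group⟩
      rw [mem_normalizer_iff_conj_smul, ← conj_smul_conj_smul, ← hgQ, conj_smul_conj_smul,
        inv_mul_cancel, map_one, one_smul]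
    obtain ⟨v₁, hv₁, a, ha, rfl⟩ := hdecW w hw
    have hπV : ∀ v ∈ V, π v = 1 := fun v hv => (QuotientGroup.eq_one_iff v).2 hv
    rw [map_mul, hπV v₁ hv₁, one_mul]
    by_cases hcent : R₀ ≤ centralizer (Q : Set G)
    · -- `Q` is cyclic
      have hQc : IsCyclic Q := by
        have := hZsub Q hQp (hQW.trans hWH)
        rwa [inf_eq_left.2 (le_centralizer_iff.1 hcent)] at this
      have hRN : R ≤ normalizer (Q : Set G) := hRQ
      let θ : ↥(normalizer (Q : Set G)) →* (ZMod (Nat.card Q))ˣ :=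
        (IsCyclic.mulAutMulEquiv Q).toMonoidHom.comp (normalizerMonoidHom Q)
      let S : Subgroup G := (centralizer ((Q.map π : Subgroup (G ⧸ V)) : Set (G ⧸ V))).comap π
      have hVS : V ≤ S := fun v hv => mem_comap.2 (by rw [hπV v hv]; exact one_mem _)
      have hNR : ∀ n ∈ N, ∀ r' ∈ R, ⁅n, r'⁆ ∈ S := by
        intro n hn r' hr'
        refine mem_comap.2 (mem_centralizer_iff.2 ?_)
        rintro _ ⟨b, hb, rfl⟩
        have h1 : θ ⁅(⟨n, hn.2⟩ : ↥(normalizer (Q : Set G))), ⟨r', hRN hr'⟩⁆ = 1 := by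
          rw [map_commutatorElement, commutatorElement_eq_one_iff_mul_comm, mul_comm]
        have h2 : normalizerMonoidHom Q ⁅(⟨n, hn.2⟩ : ↥(normalizer (Q : Set G))), ⟨r', hRN hr'⟩⁆ = 1 :=
          (IsCyclic.mulAutMulEquiv Q).injective (h1.trans (map_one _).symm)
        have h3 : ⁅n, r'⁆ * b * ⁅n, r'⁆⁻¹ = b := congrArg Subtype.val (DFunLike.congr_fun h2 (⟨b, hb⟩ : Q))
        rw [← map_mul, ← map_mul, mul_inv_eq_iff_eq_mul.1 h3]
      have hHS : H ≤ S := by
        rw [← hHR, commutator_le]
        intro h hh r' hr'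
        obtain ⟨v, hv, n, hn, rfl⟩ := hfrat h hh
        rw [show ⁅v * n, r'⁆ = v * ⁅n, r'⁆ * (r' * v⁻¹ * r'⁻¹) by rw [commutatorElement_def, commutatorElement_def]; group]
        exact mul_mem (mul_mem (hVS hv) (hNR n hn r' hr'))
          (hVS (hVn.conj_mem _ (inv_mem hv) r'))
      exact (mem_centralizer_iff.1 (mem_comap.1 (hHS hx)) _ ⟨a, ha, rfl⟩).symm
    set V₁ := ⁅V, Q⁆ with hV₁def
    have hV₁V : V₁ ≤ V := commutator_le_of_le_normalizer (hVn' Q)
    have hQH : Q ≤ H := hQW.trans hWH
    have hcopQV : (Nat.card Q).Coprime (Nat.card V) := coprime_isPGroup (p := q) (q := p) hQp hVp hqp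
    have hV₁c : V₁ ⊓ centralizer (Q : Set G) = ⊥ := by
      have h1 := inf_centralizer_inf_commutator Q V (hVn' Q) hcopQV
      rw [eq_bot_iff, ← h1]
      exact le_inf (le_inf (inf_le_left.trans hV₁V) inf_le_right) inf_le_left
    have htN : t ∈ normalizer (Q : Set G) := hRQ (hR₀ htR₀)
    have hfaith : Q ⊓ centralizer (V : Set G) = ⊥ := by
      rw [eq_bot_iff, ← inf_eq_bot_of_ne (p := p) (q := q) hVp hQp hqp.symm]
      exact fun y hy => ⟨hCV y (hQH hy.1) hy.2, hy.1⟩
    obtain ⟨s, hs, hs1⟩ : ∃ s ∈ V₁ ⊓ centralizer (R₀ : Set G), s ≠ 1 := by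
      refine (Subgroup.bot_or_exists_ne_one _).resolve_left fun hbot => hcent ?_
      have htV₁ : t ∈ normalizer (V₁ : Set G) :=
        normalizer_le_normalizer_commutator V Q ⟨htop hVn ⊤ (mem_top t), htN⟩
      have hV₁p : IsPGroup p V₁ := hVp.to_le hV₁V
      have hV₁cop : ∀ {l : ℕ}, l.Prime → l ≠ p → ¬ l ∣ Nat.card V₁ := fun hl hne hd =>
        hne (prime_eq_of_dvd_isPGroup hV₁p hl hd)
      have h1 : ⁅Q, zpowers t⁆ ≤ centralizer (V₁ : Set G) :=
        commutator_le_centralizer_of_fpf (p := r) (q := q) hr2 (hprimeG hq hqH) hrq.symm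
          (by rw [← ht, pow_orderOf_eq_one]) htN hQp
          (le_normalizer_commutator_right (hVn' Q)) htV₁ hV₁p.isNilpotent
          (hV₁cop hR₀p hrp) (hV₁cop hq hqp) (by
            rw [eq_bot_iff, ← hbot]
            rintro y ⟨hy, hyt⟩
            refine ⟨hy, mem_centralizer_iff.2 fun z hz => ?_⟩
            have hle : R₀ ≤ centralizer ({y} : Set G) := hR₀t ▸ zpowers_le.2
              (mem_centralizer_singleton_iff.2 (mem_centralizer_singleton_iff.1 hyt).symm)
            exact mem_centralizer_singleton_iff.1 (hle hz))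
      have hQt : ⁅Q, zpowers t⁆ ≤ Q := commutator_le_of_le_normalizer (zpowers_le.2 htN)
      have h2 : ⁅Q, zpowers t⁆ ≤ centralizer (V : Set G) := by
        rw [← le_centralizer_iff, ← commutator_sup_centralizer (hVn' Q) hcopQV
          (Or.inr (isSolvable_of_le hsolH hVH)), sup_le_iff]
        exact ⟨le_centralizer_iff.1 h1, inf_le_right.trans (centralizer_le hQt)⟩
      have h3 : ⁅Q, zpowers t⁆ = ⊥ := le_bot_iff.1 (hfaith ▸ le_inf hQt h2)
      rw [← hR₀t]
      exact le_centralizer_iff.1 (commutator_eq_bot_iff_le_centralizer.1 h3)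
    -- an invariant Sylow subgroup of `N`
    have hRN' : R ≤ normalizer (N : Set G) := le_normalizer_inf (htop hHn R) (hRQ.trans le_normalizer)
    obtain ⟨P₀, hP₀⟩ := exists_invariant_sylow R N hRN' (hcop.coprime_dvd_right (card_dvd_of_le inf_le_left))
      (Or.inr (isSolvable_of_le hsolH inf_le_left)) p
    set P := (P₀ : Subgroup N).map N.subtype with hPdef
    have hPN : P ≤ N := map_subtype_le _
    have hPp : IsPGroup p P := P₀.isPGroup'.map _
    have hfpf : P ⊓ centralizer (zpowers t : Set G) = ⊥ := by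
      rw [hR₀t]
      by_contra hne
      obtain ⟨y, hy, hyo⟩ := CfsgLib.PGroup.exists_orderOf_eq (p := p)
        (hPp.to_le inf_le_left : IsPGroup p ↥(P ⊓ centralizer (R₀ : Set G)))
        (H := ⊤) (fun h => hne (by
          rw [← range_subtype (P ⊓ centralizer (R₀ : Set G)), MonoidHom.range_eq_map, h, Subgroup.map_bot]))
      have hyp : (y : G) ^ p = 1 := by
        rw [← Subgroup.coe_pow, ← hyo, pow_orderOf_eq_one, Subgroup.coe_one]
      have hy1 : (y : G) ≠ 1 := fun h => hp.out.ne_one (by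
        rw [← hyo, ← Subgroup.orderOf_coe, h, orderOf_one])
      set T := V ⊔ P
      have hTp : IsPGroup p T := hVp.to_sup_of_normal_left' hPp (hVn' P)
      have hTH : T ≤ H := sup_le hVH (hPN.trans inf_le_left)
      have h1 := hone _ (hZsub T hTp hTH) s ⟨mem_sup_left (hV₁V hs.1), hs.2⟩
        (hVe.2 s (hV₁V hs.1)) hs1 y ⟨mem_sup_right y.2.1, y.2.2⟩ hyp
      have hyV : (y : G) ∈ V₁ := zpowers_le.2 hs.1 h1
      have hyQ : (y : G) ∈ centralizer (Q : Set G) :=
        mem_centralizer_of_mem_normalizer (hVn' Q) (inf_eq_bot_of_ne (p := p) (q := q) hVp hQp hqp.symm)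
          (hV₁V hyV) (hPN y.2.1).2
      have h2 : (y : G) ∈ V₁ ⊓ centralizer (Q : Set G) := ⟨hyV, hyQ⟩
      rw [hV₁c, mem_bot] at h2
      exact hy1 h2
    have hPC : P ≤ centralizer (Q : Set G) := by
      refine le_centralizer_of_cyclic_fixed (p := p) (q := q) (r := r) hp2 (hprimeG hq hqH) hr2 hqp hrp hrq
        hVe hQp hPp ht (hVn' Q) (hVn' P) (htop hVn ⊤ (mem_top t)) (hPN.trans inf_le_right) htN
        (hP₀ (hR₀ htR₀)) hfpf hfaith ?_ (by rw [hR₀t]; exact hZsub Q hQp hQH)
      intro y hy hyt hy1 y' hy' hy't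
      have hmem : ∀ {z : G}, z ∈ V → t * z = z * t → z ∈ V ⊓ centralizer (R₀ : Set G) := fun {z} hz hzt =>
        ⟨hz, mem_centralizer_iff.2 fun g hg => by
          have hle : R₀ ≤ centralizer ({z} : Set G) := hR₀t ▸ zpowers_le.2 (mem_centralizer_singleton_iff.2 hzt)
          exact mem_centralizer_singleton_iff.1 (hle hg)⟩
      exact hone _ (hZsub V hVp hVH) y (hmem hy hyt) (hVe.2 y hy) hy1 y' (hmem hy' hy't) (hVe.2 y' hy')
    -- lift to `x`
    obtain ⟨v, hv, n, hn, rfl⟩ := hfrat x hx
    obtain ⟨n₁, n₂, hn12, hn₁, hn₂, hk₁, hk₂⟩ := CfsgLib.Cores.exists_pow_mul_pow p n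
    have hn2one : π n₂ = 1 := by
      obtain ⟨k, hk⟩ := hxo
      obtain ⟨k₁, hk₁⟩ := hk₁
      have hcm : Commute (π n₁) (π n₂) := by
        obtain ⟨i, hi⟩ := mem_zpowers_iff.1 hn₁
        obtain ⟨j, hj⟩ := mem_zpowers_iff.1 hn₂
        rw [← hi, ← hj, map_zpow, map_zpow]
        exact Commute.zpow_zpow rfl i j
      have e : π n₂ = (π n₁)⁻¹ * π (v * n) := by
        rw [map_mul, hπV v hv, one_mul, hn12, map_mul, inv_mul_cancel_left]
      have hc2 : Commute ((π n₁)⁻¹) (π (v * n)) := by
        rw [map_mul, hπV v hv, one_mul, hn12, map_mul]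
        exact ((Commute.refl (π n₁)).mul_right hcm).inv_left
      have h1 : π n₂ ^ p ^ (k₁ + k) = 1 := by
        rw [e, hc2.mul_pow, inv_pow]
        have a1 : π n₁ ^ p ^ (k₁ + k) = 1 := by
          rw [← map_pow, pow_add, pow_mul, ← hk₁, pow_orderOf_eq_one, one_pow, map_one]
        have a2 : π (v * n) ^ p ^ (k₁ + k) = 1 := by
          rw [← map_pow, pow_add, mul_comm, pow_mul, ← hk, pow_orderOf_eq_one, one_pow, map_one]
        rw [a1, a2, inv_one, one_mul]
      exact orderOf_eq_one_iff.1 (Nat.eq_one_of_dvd_coprimes (hk₂.pow_right (k₁ + k))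
        (orderOf_map_dvd π n₂) (orderOf_dvd_of_pow_eq_one h1))
    have hn₁N : n₁ ∈ N := zpowers_le.2 hn hn₁
    obtain ⟨k₁, hk₁⟩ := hk₁
    obtain ⟨g, hg, hgle⟩ := (sylIn_map P₀).exists_conj_le (X := zpowers n₁)
      (IsPGroup.of_card (n := k₁) (by rw [Nat.card_zpowers, hk₁])) (zpowers_le.2 hn₁N)
    have hn₁C : n₁ ∈ centralizer (Q : Set G) := by
      have h1 : g * n₁ * g⁻¹ ∈ centralizer (Q : Set G) :=
        hPC ((conj_smul_le_iff.1 hgle) n₁ (mem_zpowers n₁))
      have h2 := normalizer_conj_mem (normalizer_le_normalizer_centralizer Q (inv_mem hg.2)) h1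
      simpa [mul_assoc] using h2
    rw [map_mul, hπV v hv, one_mul, hn12, map_mul, hn2one, mul_one, ← map_mul, ← map_mul,
      mem_centralizer_iff.1 hn₁C a ha]
  -- conclude with the Fitting subgroup of `H / V`
  set f := π.subgroupMap H with hfdef
  have hf : Function.Surjective f := MonoidHom.subgroupMap_surjective _ _
  have hfker : ∀ y : H, f y = 1 → y ∈ pCore p H := fun y hy => by
    obtain ⟨z, hz, hzy⟩ := ((QuotientGroup.eq_one_iff _).1 (congrArg Subtype.val hy) : (y : G) ∈ V)
    exact (Subtype.ext hzy : z = y) ▸ hz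
  have hcq : pCore p ↥(H.map π) = ⊥ := by
    have hn : ((pCore p ↥(H.map π)).comap f).Normal :=
      Subgroup.Normal.comap (Subgroup.sSup_normal _ fun _ h => h.1) f
    have hle : (pCore p ↥(H.map π)).comap f ≤ pCore p H := by
      refine CfsgLib.Cores.le_pCore (IsPGroup.comap_of_ker_isPGroup (CfsgLib.Cores.isPGroup_pCore p) _ ?_)
      exact (CfsgLib.Cores.isPGroup_pCore p).to_le fun y hy => hfker y hy
    rw [eq_bot_iff]
    intro y hy
    obtain ⟨z, rfl⟩ := hf y
    exact mem_bot.2 (Subtype.ext ((QuotientGroup.eq_one_iff _).2 (mem_map_of_mem H.subtype (hle hy))))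
  have S := (default : Sylow p H)
  refine ((hp.out.coprime_iff_not_dvd).2 fun hd => S.not_dvd_index (hd.trans (index_dvd_of_le
    fun y hy => ?_))).symm
  obtain ⟨k, hk⟩ := IsPGroup.iff_orderOf.1 S.isPGroup' ⟨y, hy⟩
  rw [Subgroup.orderOf_mk] at hk
  have hsolQ : Group.IsSolvable ↥(H.map π) := Group.isSolvable_of_surjective hf
  refine hfker y ?_
  have hyF : f y ∈ centralizer (fittingSubgroup ↥(H.map π) : Set ↥(H.map π)) := by
    have hle : fittingSubgroup ↥(H.map π) ≤ centralizer ({f y} : Set ↥(H.map π)) := by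
      rw [CfsgLib.Cores.fittingSubgroup_eq_iSup_pCore, iSup_le_iff]
      rintro ⟨q, hqmem⟩
      have hq := Nat.prime_of_mem_primeFactors hqmem
      have : Fact q.Prime := ⟨hq⟩
      by_cases hqp : q = p
      · subst hqp; rw [hcq]; exact bot_le
      intro w hw
      obtain ⟨z, rfl⟩ := hf w
      have hcn : (pCore q ↥(H.map π)).Characteristic := CfsgLib.Cores.pCore_characteristic q
      have hmn : ((pCore q ↥(H.map π)).map (H.map π).subtype).Normal :=
        have : (H.map π).Normal := hHn.map π (QuotientGroup.mk'_surjective V)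
        ConjAct.normal_of_characteristic_of_normal
      set W := ((pCore q ↥(H.map π)).map (H.map π).subtype).comap π
      have hWH : W ≤ H := by
        intro g hg
        obtain ⟨h, hh, hhg⟩ := map_subtype_le _ (mem_comap.1 hg)
        have : h⁻¹ * g ∈ V := QuotientGroup.eq.1 hhg
        simpa using mul_mem hh (hVH this)
      have h1 := key q hq hqp W (hmn.comap π)
        (fun v hv => mem_comap.2 (by rw [show π v = 1 from (QuotientGroup.eq_one_iff v).2 hv]; exact one_mem _))
        hWH (by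
          rw [map_comap_eq_self_of_surjective (QuotientGroup.mk'_surjective V)]
          exact ((CfsgLib.Cores.isPGroup_pCore q).map _).exists_card_eq)
        y y.2 ⟨k, (Subgroup.orderOf_coe y).trans hk⟩ z (mem_comap.2 ⟨_, hw, rfl⟩)
      exact mem_centralizer_singleton_iff.2 (Subtype.ext h1.symm)
    exact mem_centralizer_iff.2 fun w hw => mem_centralizer_singleton_iff.1 (hle hw)
  have h1 := CfsgLib.Solvable.centralizer_fittingSubgroup_le hyF
  have := CfsgLib.Cores.fittingSubgroup_normal (G := ↥(H.map π))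
  have h2 := CfsgLib.OddLocal.Ten.le_pCore_of_le_nilpotent (q := p)
    (CfsgLib.Cores.isNilpotent_fittingSubgroup (G := ↥(H.map π)))
    ((IsPGroup.of_card (n := k) (by rw [Nat.card_zpowers, hk]) : IsPGroup p (zpowers y)).map f)
    (by rw [MonoidHom.map_zpowers]; exact zpowers_le.2 h1)
  rw [hcq, le_bot_iff, Subgroup.map_eq_bot_iff] at h2
  exact h2 (mem_zpowers y)

/-- The theorem. -/
theorem plength_one_commutator : ∀ n : ℕ, Smaller.{u} p n := by
  intro n
  induction n with
  | zero => intro G _ _ _ _ H _ _ h; exact absurd h (Nat.not_lt_zero _)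
  | succ n ih =>
    intro G _ _ hsol hodd H R R₀ hlt hRH hcop hR₀ hR₀p hZ
    rcases Nat.lt_succ_iff_lt_or_eq.1 hlt with hlt | heq
    · exact ih G hsol hodd H R R₀ hlt hRH hcop hR₀ hR₀p hZ
    subst heq
    have hsolH : Group.IsSolvable H := inferInstance
    by_cases hpH : p ∣ Nat.card H
    swap
    · exact CfsgLib.OddLocal.Ten.pLengthLE_one_of_not_dvd fun hd => hpH
        (hd.trans (card_dvd_of_le (commutator_le_of_le_normalizer hRH)))
    by_cases hHR : ⁅H, R⁆ = H
    swap
    · have hle := commutator_le_of_le_normalizer hRH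
      have hlt' : Nat.card ↥⁅H, R⁆ < Nat.card H :=
        lt_of_le_of_ne (card_le_of_le hle) fun e => hHR (eq_of_le_of_card_ge hle e.ge)
      have hZ' : IsZGroup ↥(⁅H, R⁆ ⊓ centralizer (R₀ : Set G)) :=
        IsZGroup.of_injective (f := inclusion (inf_le_inf_right _ hle)) (inclusion_injective _)
      have h := ih G hsol hodd _ R R₀ hlt' (le_normalizer_commutator_right hRH)
        (hcop.coprime_dvd_right (card_dvd_of_le hle)) hR₀ hR₀p hZ'
      rwa [commutator_commutator_self hRH hcop (Or.inr hsolH)] at h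
    -- move to `H R`
    set K := H ⊔ R
    have hHn : (H.subgroupOf K).Normal := (normal_subgroupOf_iff_le_normalizer le_sup_left).2
      (sup_le le_normalizer hRH)
    have hcard : ∀ {X : Subgroup G}, X ≤ K → Nat.card ↥(X.subgroupOf K) = Nat.card X := fun hX =>
      Nat.card_congr (subgroupOfEquivOfLe hX).toEquiv
    have hR₀K : R₀ ≤ K := hR₀.trans le_sup_right
    have h1 := step (p := p) (G := K) inferInstance (hodd.of_dvd_nat (card_subgroup_dvd_card K))
      (H.subgroupOf K) (R.subgroupOf K) (R₀.subgroupOf K)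
      (by rw [hcard le_sup_left, hcard le_sup_right]; exact hcop)
      (fun x hx => hR₀ hx) (by rw [hcard hR₀K]; exact hR₀p) ?_ ?_
      (by rw [hcard le_sup_left]; exact hpH) (by rw [hcard le_sup_left]; exact ih)
    · rw [hHR]
      exact CfsgLib.OddLocal.Ten.pLengthLE_one_of_injective
        (subgroupOfEquivOfLe (le_sup_left : H ≤ K)).symm.toMonoidHom
        (subgroupOfEquivOfLe (le_sup_left : H ≤ K)).symm.injective h1
    · let g : ↥(H.subgroupOf K ⊓ centralizer (R₀.subgroupOf K : Set K)) →*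
          ↥(H ⊓ centralizer (R₀ : Set G)) :=
        MonoidHom.mk' (fun x => ⟨((x : K) : G), ⟨mem_subgroupOf.1 x.2.1, mem_centralizer_iff.2 fun a ha =>
          congrArg Subtype.val (mem_centralizer_iff.1 x.2.2 ⟨a, hR₀K ha⟩ (mem_subgroupOf.2 ha))⟩⟩)
          fun x y => rfl
      have : IsZGroup ↥(H ⊓ centralizer (R₀ : Set G)) := hZ
      exact IsZGroup.of_injective (f := g) fun a b hab => Subtype.ext (Subtype.ext (Subtype.mk.inj hab))
    · refine Subgroup.map_injective K.subtype_injective ?_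
      rw [map_commutator, map_subgroupOf_eq_of_le le_sup_left, map_subgroupOf_eq_of_le le_sup_right, hHR]

end CfsgLib.OddLocal.PLen
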