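import Cfsg.Agent.Lib.OddLocal.PLength.Kernel
import Cfsg.Agent.Lib.OddLocal.ActionTools

/-!
The central step for `p`-length one: a `p`-group `M` on which `t` is fixed-point-free centralises a
`q`-group `Q` acting faithfully on an elementary abelian `p`-group, if `t` has cyclic fixed points on
both `Q` and the module.
-/

set_option autoImplicit false
set_option linter.unusedSectionVars false

namespace CfsgLib.OddLocal.PLen

open Cfsg Subgroup CfsgLib.Solvable CfsgLib.OddLocal.BG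
open scoped commutatorElement Pointwise

variable {G : Type*} [Group G] [Finite G] {p q r : ℕ} [hp : Fact p.Prime] [hq : Fact q.Prime]
  [hr : Fact r.Prime]

theorem le_centralizer_of_cyclic_fixed {V Q M : Subgroup G} {t : G} (hp2 : p ≠ 2) (hq2 : q ≠ 2)
    (hr2 : r ≠ 2) (hqp : q ≠ p) (hrp : r ≠ p) (hrq : r ≠ q) (hV : IsElementaryAbelian p V)
    (hQ : IsPGroup q Q) (hM : IsPGroup p M) (ht : orderOf t = r)
    (hQV : Q ≤ normalizer (V : Set G)) (hMV : M ≤ normalizer (V : Set G))
    (htV : t ∈ normalizer (V : Set G)) (hMQ : M ≤ normalizer (Q : Set G))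
    (htQ : t ∈ normalizer (Q : Set G)) (htM : t ∈ normalizer (M : Set G))
    (hfpf : M ⊓ centralizer (zpowers t : Set G) = ⊥)
    (hfaith : Q ⊓ centralizer (V : Set G) = ⊥)
    (hfix : ∀ x ∈ V, t * x = x * t → x ≠ 1 → ∀ y ∈ V, t * y = y * t → y ∈ zpowers x)
    (hCQ : IsCyclic ↥(Q ⊓ centralizer (zpowers t : Set G))) : M ≤ centralizer (Q : Set G) := by
  set E := zpowers t with hE
  have hEcard : Nat.card E = r := by rw [hE, Nat.card_zpowers, ht]
  -- the detecting subgroup
  obtain ⟨D₀, hD₀c, hexp, hcl, hdet⟩ := CfsgLib.Techniques.SmallCritical.exists_detecting hQ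
  have hexp' : ∀ d ∈ D₀, d ^ q = 1 := fun d hd => by
    have := hexp d hd
    rwa [CfsgLib.Techniques.SmallCritical.smallExp, if_neg hq2] at this
  set D := D₀.map Q.subtype with hD
  have hDQ : D ≤ Q := map_subtype_le _
  have hND : normalizer (Q : Set G) ≤ normalizer (D : Set G) :=
    CfsgLib.OddLocal.normalizer_le_normalizer_map_characteristic D₀
  have hDp : IsPGroup q D := hQ.to_le hDQ
  have hDexp : ∀ d ∈ D, d ^ q = 1 := by
    rintro _ ⟨d, hd, rfl⟩
    rw [← map_pow, hexp' d hd, map_one]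
  suffices hMD : M ≤ centralizer (D : Set G) by
    intro m hm
    set a : MulAut Q := normalizerMonoidHom Q ⟨m, hMQ hm⟩
    have ha : (orderOf a).Coprime q := by
      obtain ⟨k, hk⟩ := hM.exists_card_eq
      refine Nat.Coprime.coprime_dvd_left (orderOf_map_dvd (normalizerMonoidHom Q) _) ?_
      rw [Subgroup.orderOf_mk]
      exact ((Nat.coprime_primes hp.out hq.out).2 hqp.symm).pow_left k |>.coprime_dvd_left
        (hk ▸ Subgroup.orderOf_dvd_natCard M hm)
    have h1 : a = 1 := hdet a ha fun d hd => Subtype.ext (by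
      show m * (d : G) * m⁻¹ = d
      rw [← mem_centralizer_iff.1 (hMD hm) (d : G) ⟨d, hd, rfl⟩, mul_inv_cancel_right])
    refine mem_centralizer_iff.2 fun x hx => ?_
    have h2 : m * x * m⁻¹ = x := congrArg Subtype.val (DFunLike.congr_fun h1 (⟨x, hx⟩ : Q))
    exact (mul_inv_eq_iff_eq_mul.1 h2).symm
  have hDD : ∀ x ∈ D, ∀ y ∈ D, ∀ w ∈ D, w * ⁅x, y⁆ = ⁅x, y⁆ * w := by
    rintro _ ⟨x, hx, rfl⟩ _ ⟨y, hy, rfl⟩ _ ⟨w, hw, rfl⟩
    rw [← map_commutatorElement, ← map_mul, ← map_mul]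
    exact congrArg _ (mem_centralizer_iff.1 (hcl (commutator_mem_commutator hx (mem_top y))) w hw)
  set Z := D ⊓ centralizer (D : Set G) with hZ
  have hZe : IsElementaryAbelian q Z := CfsgLib.PGroup.isElementaryAbelian_mk
    (fun a ha b hb => mem_centralizer_iff.1 hb.2 a ha.1) fun a ha => hDexp a ha.1
  have hNZ : normalizer (Q : Set G) ≤ normalizer (Z : Set G) :=
    le_normalizer_inf hND (hND.trans (normalizer_le_normalizer_centralizer D))
  have hcfgZ : Cfg p q r V Z t := ⟨hV, hZe, (inf_le_left.trans hDQ).trans hQV, hNZ htQ, htV, ht, hqp,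
    hrp, hrq, hfix⟩
  have hMZ : M ≤ centralizer (Z : Set G) := le_centralizer_abelian hcfgZ
    (le_bot_iff.1 ((inf_le_inf_right _ (inf_le_left.trans hDQ)).trans hfaith.le))
    hp2 hr2 hM (hMQ.trans hNZ) hMV htM hfpf
  -- Frobenius: some fixed point of `t` in `⁅D, M⁆`
  have hMD' : M ≤ normalizer (D : Set G) := hMQ.trans hND
  have htD : E ≤ normalizer (D : Set G) := zpowers_le.2 (hND htQ)
  have hcopMD : (Nat.card M).Coprime (Nat.card D) := by
    obtain ⟨a, ha⟩ := hM.exists_card_eq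
    obtain ⟨b, hb⟩ := hDp.exists_card_eq
    rw [ha, hb]
    exact ((Nat.coprime_primes hp.out hq.out).2 hqp.symm).pow _ _
  have hcopD : ∀ H : Subgroup G, H ≤ D → (Nat.card H).Coprime (Nat.card M * Nat.card E) := by
    intro H hH
    obtain ⟨a, ha⟩ := hM.exists_card_eq
    obtain ⟨b, hb⟩ := (hDp.to_le hH).exists_card_eq
    rw [ha, hb, hEcard]
    exact Nat.Coprime.mul_right (((Nat.coprime_primes hq.out hp.out).2 hqp).pow _ _)
      (((Nat.coprime_primes hq.out hr.out).2 hrq.symm).pow_left _)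
  have hfpfE : ∀ e ∈ E, e ≠ 1 → M ⊓ centralizer ({e} : Set G) = ⊥ := by
    intro e he he1
    have hgen : zpowers e = E := eq_of_le_of_card_ge (zpowers_le.2 he) (by
      rw [hEcard, Nat.card_zpowers]
      exact ((Nat.dvd_prime hr.out).1 (hEcard ▸ Subgroup.orderOf_dvd_natCard _ he)).resolve_left
        (fun h => he1 (orderOf_eq_one_iff.1 h)) |>.ge)
    rw [eq_bot_iff]
    rintro x ⟨hx, hxe⟩
    have hle : E ≤ centralizer ({x} : Set G) := hgen ▸ zpowers_le.2
      (mem_centralizer_singleton_iff.2 (mem_centralizer_singleton_iff.1 hxe).symm)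
    exact hfpf ▸ ⟨hx, mem_centralizer_iff.2 fun y hy => mem_centralizer_singleton_iff.1 (hle hy)⟩
  have hEM : E ≤ normalizer (M : Set G) := zpowers_le.2 htM
  have hsolD : ∀ H : Subgroup G, H ≤ D → Group.IsSolvable H := fun H hH =>
    have := (hDp.to_le hH).isNilpotent
    inferInstance
  set H := ⁅D, M⁆ with hH
  have hHD : H ≤ D := commutator_le_of_le_normalizer hMD'
  by_cases hbot : H ⊓ centralizer (E : Set G) = ⊥
  · have h1 : H ≤ centralizer (M : Set G) := frobenius_kernel_centralizes hM.isNilpotent hEM hfpfE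
      (le_normalizer_commutator_right hMD') ((le_inf htD hEM).trans (normalizer_le_normalizer_commutator _ _))
      (hsolD H hHD) (hcopD H hHD) hbot
    have h2 : H = ⊥ := by
      rw [hH, ← commutator_commutator_self hMD' hcopMD (Or.inr (hsolD D le_rfl))]
      exact commutator_eq_bot_iff_le_centralizer.2 h1
    exact le_centralizer_iff.1 (commutator_eq_bot_iff_le_centralizer.1 h2)
  obtain ⟨c, ⟨hcH, hct⟩, hc1⟩ := (Subgroup.bot_or_exists_ne_one _).resolve_left hbot
  have hcD : c ∈ D := hHD hcH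
  have hCD : D ⊓ centralizer (E : Set G) ≤ zpowers c := by
    have hcyc : IsCyclic ↥(D ⊓ centralizer (E : Set G)) :=
      isCyclic_of_injective (inclusion (inf_le_inf_right _ hDQ)) (inclusion_injective _)
    refine (eq_of_le_of_card_ge (zpowers_le.2 (Subgroup.mem_inf.2 ⟨hcD, hct⟩)) ?_).ge
    rw [← IsCyclic.exponent_eq_card, Nat.card_zpowers, orderOf_eq_prime (hDexp c hcD) hc1]
    exact Nat.le_of_dvd hq.out.pos (Monoid.exponent_dvd_of_forall_pow_eq_one fun x => Subtype.ext (by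
      rw [Subgroup.coe_pow, Subgroup.coe_one]; exact hDexp x x.2.1))
  by_cases hcZ : c ∈ Z
  · -- fixed-point-free modulo `Z`
    set N := normalizer (Z : Set G) with hN
    set Z' := Z.subgroupOf N with hZ'
    have : Z'.Normal := normal_in_normalizer
    set π := QuotientGroup.mk' Z'
    have hDN : D ≤ N := (hDQ.trans le_normalizer).trans hNZ
    have hMN : M ≤ N := hMQ.trans hNZ
    have hEN : E ≤ N := zpowers_le.2 (hNZ htQ)
    set D' := (D.subgroupOf N).map π
    set M' := (M.subgroupOf N).map π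
    set E' := (E.subgroupOf N).map π
    have hker : ∀ {x : N}, π x = 1 → (x : G) ∈ Z := fun {x} h => mem_subgroupOf.1 ((QuotientGroup.eq_one_iff (N := Z') x).1 h)
    have hnorm : ∀ X Y : Subgroup G, X ≤ N → X ≤ normalizer (Y : Set G) →
        (X.subgroupOf N).map π ≤ normalizer ((Y.subgroupOf N).map π : Set (N ⧸ Z')) := by
      rintro X Y hX hXY _ ⟨x, hx, rfl⟩
      refine mem_normalizer_of_conj_mem ?_
      rintro _ ⟨y, hy, rfl⟩
      exact ⟨x * y * x⁻¹, mem_subgroupOf.2 (normalizer_conj_mem (hXY (mem_subgroupOf.1 hx))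
        (mem_subgroupOf.1 hy)), by rw [map_mul, map_mul, map_inv]⟩
    have hcard : ∀ X : Subgroup G, X ≤ N → Nat.card ↥((X.subgroupOf N).map π) ∣ Nat.card X := fun X hX =>
      (Subgroup.card_map_dvd _ _).trans (Nat.card_congr (subgroupOfEquivOfLe hX).toEquiv).dvd
    have hMp' : IsPGroup p M' := ((hM.comap_subtype (K := N))).map π
    have hcop : (Nat.card D').Coprime (Nat.card M' * Nat.card E') :=
      ((hcopD D le_rfl).coprime_dvd_left (hcard D hDN)).coprime_dvd_right
        (Nat.mul_dvd_mul (hcard M hMN) (hcard E hEN))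
    have hfpf' : ∀ e ∈ E', e ≠ 1 → M' ⊓ centralizer ({e} : Set (N ⧸ Z')) = ⊥ := by
      rintro _ ⟨e, he, rfl⟩ he1
      rw [eq_bot_iff]
      rintro _ ⟨⟨m, hm, rfl⟩, hc⟩
      have he1' : (e : G) ≠ 1 := fun h => he1 (by rw [show e = 1 from Subtype.ext h, map_one])
      have h1 : π ⁅m, e⁆ = 1 := by
        rw [map_commutatorElement, commutatorElement_eq_one_iff_mul_comm]
        exact mem_centralizer_singleton_iff.1 hc
      have h2 : ⁅(m : G), (e : G)⁆ ∈ Z ⊓ M := by
        refine ⟨hker h1, ?_⟩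
        rw [commutatorElement_def, show (m : G) * e * (m : G)⁻¹ * (e : G)⁻¹ =
          m * (e * (m : G)⁻¹ * (e : G)⁻¹) by group]
        exact mul_mem (mem_subgroupOf.1 hm)
          (normalizer_conj_mem (hEM (mem_subgroupOf.1 he)) (inv_mem (mem_subgroupOf.1 hm)))
      rw [inf_comm, le_bot_iff.1 ((inf_le_inf_left M (inf_le_left : Z ≤ D)).trans
        (disjoint_of_coprime hcopMD).le), mem_bot, commutatorElement_eq_one_iff_mul_comm] at h2
      have h3 : (m : G) ∈ M ⊓ centralizer ({(e : G)} : Set G) :=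
        ⟨mem_subgroupOf.1 hm, mem_centralizer_singleton_iff.2 h2⟩
      rw [hfpfE _ (mem_subgroupOf.1 he) he1', mem_bot] at h3
      rw [mem_bot, show m = 1 from Subtype.ext h3, map_one]
    have hfix' : D' ⊓ centralizer (E' : Set (N ⧸ Z')) = ⊥ := by
      rw [eq_bot_iff]
      rintro _ ⟨⟨x, hx, rfl⟩, hxc⟩
      have hx' : ∀ a ∈ E, ⁅a, (x : G)⁆ ∈ Z := fun a ha => by
        have h1 : π ⁅(⟨a, hEN ha⟩ : N), x⁆ = 1 := by
          rw [map_commutatorElement, commutatorElement_eq_one_iff_mul_comm]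
          exact mem_centralizer_iff.1 hxc _ ⟨⟨a, hEN ha⟩, mem_subgroupOf.2 ha, rfl⟩
        exact hker h1
      have hcopEZ : (Nat.card E).Coprime (Nat.card Z) :=
        ((hcopD Z inf_le_left).coprime_mul_left_right).symm
      obtain ⟨n, hn, hnx⟩ := exists_mul_mem_centralizer E Z hEN hcopEZ (Or.inr (hsolD Z inf_le_left)) x hx'
      have hnxD : n * (x : G) ∈ D ⊓ centralizer (E : Set G) :=
        ⟨mul_mem hn.1 (mem_subgroupOf.1 hx), hnx⟩
      have hxZ : (x : G) ∈ Z :=
        (Subgroup.mul_mem_cancel_left _ hn).1 (zpowers_le.2 hcZ (hCD hnxD))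
      exact mem_bot.2 ((QuotientGroup.eq_one_iff x).2 hxZ)
    have h1 : D' ≤ centralizer (M' : Set (N ⧸ Z')) := frobenius_kernel_centralizes hMp'.isNilpotent
      (hnorm E M hEN hEM) hfpf' (hnorm M D hMN hMD') (hnorm E D hEN htD)
      (have : Group.IsNilpotent D' := ((hDp.comap_subtype (K := N)).map π).isNilpotent; inferInstance) hcop hfix'
    have h2 : H ≤ Z := commutator_le.2 fun d hd m hm => by
      refine hker (x := ⁅(⟨d, hDN hd⟩ : N), ⟨m, hMN hm⟩⁆) ?_
      rw [map_commutatorElement, commutatorElement_eq_one_iff_mul_comm]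
      exact (mem_centralizer_iff.1 (h1 ⟨⟨d, hDN hd⟩, mem_subgroupOf.2 hd, rfl⟩) _
        ⟨⟨m, hMN hm⟩, mem_subgroupOf.2 hm, rfl⟩).symm
    have h3 : H = ⊥ := by
      rw [hH, ← commutator_commutator_self hMD' hcopMD (Or.inr (hsolD D le_rfl))]
      refine commutator_eq_bot_iff_le_centralizer.2 ?_
      exact h2.trans (le_centralizer_iff.1 hMZ)
    exact le_centralizer_iff.1 (commutator_eq_bot_iff_le_centralizer.1 h3)
  -- otherwise `c` would be central in `D`
  exfalso
  set A := Z ⊔ zpowers c with hA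
  have hAe : IsElementaryAbelian q A :=
    CfsgLib.PGroup.elemAb_sup hZe (CfsgLib.PGroup.elemAb_zpowers (hDexp c hcD)) fun a ha b hb =>
      (mem_centralizer_iff.1 ha.2 b (zpowers_le.2 hcD hb)).symm
  have hAD : A ≤ D := sup_le inf_le_left (zpowers_le.2 hcD)
  have hAQ : A ≤ Q := hAD.trans hDQ
  have hZA : Z ≤ A := le_sup_left
  have hDA : D ≤ normalizer (A : Set G) := le_normalizer_of_conj_mem fun d hd x hx => by
    have h2 : d * x * d⁻¹ = ⁅d, x⁆ * x := by rw [commutatorElement_def]; group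
    rw [h2]
    exact mul_mem (hZA (Subgroup.mem_inf.2 ⟨mul_mem (mul_mem (mul_mem hd (hAD hx)) (inv_mem hd)) (inv_mem (hAD hx)),
      mem_centralizer_iff.2 fun w hw => hDD d hd x (hAD hx) w hw⟩)) hx
  have htA : t ∈ normalizer (A : Set G) := by
    refine mem_normalizer_iff_conj_smul.2 ?_
    rw [hA, Subgroup.smul_sup, conj_smul_self_of_mem_normalizer (hNZ htQ),
      conj_smul_eq_map t (zpowers c), MonoidHom.map_zpowers]
    congr 2
    show t * c * t⁻¹ = c
    rw [mem_centralizer_iff.1 hct t (mem_zpowers t), mul_inv_cancel_right]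
  have cfg : Cfg p q r V A t := ⟨hV, hAe, hAQ.trans hQV, htA, htV, ht, hqp, hrp, hrq, hfix⟩
  have hEZ : E ≤ normalizer (Z : Set G) := zpowers_le.2 (hNZ htQ)
  -- `⁅A, t⁆ = Z`
  have hAt : ⁅A, E⁆ = Z := by
    refine le_antisymm (commutator_le.2 fun x hx a ha => ?_) ?_
    · obtain ⟨z, hz, y, hy, rfl⟩ := exists_mul_of_mem_sup (zpowers_le.2 (hNZ (le_normalizer (hDQ hcD)))) hx
      have hya : y * a = a * y := by
        have hle : zpowers c ≤ centralizer ({a} : Set G) := zpowers_le.2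
          (mem_centralizer_singleton_iff.2 (mem_centralizer_iff.1 hct a ha).symm)
        exact mem_centralizer_singleton_iff.1 (hle hy)
      rw [show ⁅z * y, a⁆ = z * (y * a * y⁻¹) * z⁻¹ * a⁻¹ by rw [commutatorElement_def]; group, hya,
        mul_inv_cancel_right, show z * a * z⁻¹ * a⁻¹ = z * (a * z⁻¹ * a⁻¹) by group]
      exact mul_mem hz (normalizer_conj_mem (hEZ ha) (inv_mem hz))
    · have hcopEZ : (Nat.card E).Coprime (Nat.card Z) :=
        ((hcopD Z inf_le_left).coprime_mul_left_right).symm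
      have h := commutator_sup_centralizer hEZ hcopEZ (Or.inr (hsolD Z inf_le_left))
      have hbotZ : Z ⊓ centralizer (E : Set G) = ⊥ := by
        rw [eq_bot_iff]
        rintro z ⟨hz, hzt⟩
        by_contra hz1
        have h5 : zpowers z = zpowers c := eq_of_le_of_card_ge (zpowers_le.2 (hCD ⟨hz.1, hzt⟩)) (by
          rw [Nat.card_zpowers, Nat.card_zpowers, orderOf_eq_prime (hDexp c hcD) hc1,
            orderOf_eq_prime (hDexp z hz.1) fun e => hz1 (mem_bot.2 e)])
        exact hcZ (zpowers_le.2 hz (h5.ge (mem_zpowers c)))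
      rw [hbotZ, sup_bot_eq] at h
      exact h.ge.trans (commutator_mono hZA le_rfl)
  have hstab : ∀ U, Good q V A t U → D ≤ normalizer (U : Set G) := by
    intro U hU
    refine orbit_stable hDp hrq (hND htQ) ht fun d hd => ?_
    refine good_orbit cfg hU ⟨hyp'_conj (hDA hd) (hQV (hDQ hd)) hU.1, fun hle => hU.2 ?_⟩
    rw [hAt] at hle ⊢
    have hdZ : d ∈ normalizer (Z : Set G) := hNZ (le_normalizer (hDQ hd))
    rw [← conj_smul_self_of_mem_normalizer hdZ] at hle
    have h1 := conj_smul_mono d⁻¹ hle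
    rwa [conj_smul_conj_smul, conj_smul_conj_smul, inv_mul_cancel, map_one, one_smul, one_smul] at h1
  apply hcZ
  refine ⟨hcD, mem_centralizer_iff.2 fun d hd => ?_⟩
  set x := ⁅d, c⁆ with hx
  have hxZ : x ∈ Z := Subgroup.mem_inf.2 ⟨mul_mem (mul_mem (mul_mem hd hcD) (inv_mem hd)) (inv_mem hcD),
    mem_centralizer_iff.2 fun w hw => hDD d hd c hcD w hw⟩
  have hxV := mem_centralizer_of_hyperplanes cfg (hZA hxZ) fun U hU => by
    by_cases hg : Z ≤ U
    · exact hg hxZ
    have hUg : Good q V A t U := ⟨hU, hAt ▸ hg⟩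
    have hn : U ≤ normalizer (Z : Set G) :=
      (hU.1.trans hAQ).trans (le_normalizer.trans hNZ)
    have hgen : Z ⊔ U = A := by
      refine eq_of_le_of_card_ge (sup_le hZA hU.1) ?_
      have hlt : U < Z ⊔ U := lt_of_le_of_ne le_sup_right fun e => hg (e ▸ le_sup_left)
      obtain ⟨a, ha⟩ := ((hDp.to_le hAD).to_le hU.1).exists_card_eq
      obtain ⟨b, hb⟩ := ((hDp.to_le hAD).to_le (sup_le hZA hU.1)).exists_card_eq
      have h3 : Nat.card U < Nat.card ↥(Z ⊔ U) :=
        lt_of_le_of_ne (card_le_of_le hlt.le) fun e => hlt.ne (eq_of_le_of_card_ge hlt.le e.ge)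
      rw [ha, hb] at h3
      have := (Nat.pow_lt_pow_iff_right hq.out.one_lt).1 h3
      rw [← hU.2.1, ha, hb, ← pow_succ]
      exact Nat.pow_le_pow_right hq.out.pos this
    obtain ⟨z, hz, u, hu, hzu⟩ := exists_mul_of_mem_sup hn (hgen.ge (mem_sup_right (mem_zpowers c)))
    have hdU : d * u * d⁻¹ ∈ U := normalizer_conj_mem (hstab U hUg hd) hu
    have e : x = z * (d * u * d⁻¹ * u⁻¹) * z⁻¹ := by
      rw [hx, commutatorElement_def, hzu, mul_inv_rev,
        show d * (z * u) * d⁻¹ * (u⁻¹ * z⁻¹) = (d * z) * u * d⁻¹ * u⁻¹ * z⁻¹ by group,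
        mem_centralizer_iff.1 hz.2 d hd]
      group
    have hzU : ∀ w ∈ U, z * w * z⁻¹ = w := fun w hw => by
      rw [(mem_centralizer_iff.1 hz.2 w (hAD (hU.1 hw))).symm, mul_inv_cancel_right]
    rw [e, hzU _ (mul_mem hdU (inv_mem hu))]
    exact mul_mem hdU (inv_mem hu)
  have h0 : x ∈ Q ⊓ centralizer (V : Set G) := ⟨hDQ hxZ.1, hxV⟩
  rw [hfaith, mem_bot] at h0
  exact commutatorElement_eq_one_iff_mul_comm.1 h0

end CfsgLib.OddLocal.PLen
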