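import Cfsg.Agent.Lib.OddLocal.PLength.Orbit
import Cfsg.Agent.Lib.Techniques.SmallCritical
import Cfsg.Agent.Lib.Solvable.Generation

/-!
A `p`-group with a fixed-point-free operator `t` of prime order centralises a `q`-group `Q` acting
faithfully on an elementary abelian `p`-group on which, as on `Q`, `t` has cyclic fixed points.
-/

set_option autoImplicit false
set_option linter.unusedSectionVars false

namespace CfsgLib.OddLocal.PLen

open Cfsg Subgroup CfsgLib.Solvable CfsgLib.OddLocal.BG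
open scoped commutatorElement Pointwise

variable {G : Type*} [Group G] [Finite G] {p q r s : ℕ} [hp : Fact p.Prime] [hq : Fact q.Prime]
  [hr : Fact r.Prime] {V A : Subgroup G} {t : G}

theorem card_sup_zpowers [hs : Fact s.Prime] {M : Subgroup G} (hM : IsPGroup s M) (hsr : r ≠ s)
    (htM : t ∈ normalizer (M : Set G)) (ht : orderOf t = r) :
    Nat.card ↥(M ⊔ zpowers t) = Nat.card M * r := by
  rw [card_sup_of_disjoint (zpowers_le.2 htM), Nat.card_zpowers, ht]
  apply disjoint_of_coprime
  obtain ⟨k, hk⟩ := hM.exists_card_eq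
  rw [hk, Nat.card_zpowers, ht]
  exact ((Nat.coprime_primes hs.out hr.out).2 hsr.symm).pow_left k

/-- A normalised `s`-group permuting an orbit of length prime to `s` fixes it pointwise. -/
theorem orbit_stable [hs : Fact s.Prime] {M U : Subgroup G} (hM : IsPGroup s M) (hsr : r ≠ s)
    (htM : t ∈ normalizer (M : Set G)) (ht : orderOf t = r)
    (horb : ∀ m ∈ M, ∃ i : ℕ, MulAut.conj m • U = MulAut.conj (t ^ i) • U) :
    M ≤ normalizer (U : Set G) := by
  by_cases htU : t ∈ normalizer (U : Set G)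
  · intro m hm
    obtain ⟨i, hi⟩ := horb m hm
    rw [mem_normalizer_iff_conj_smul, hi, conj_smul_self_of_mem_normalizer (pow_mem htU i)]
  set K := M ⊔ zpowers t with hKdef
  have hK : Nat.card K = Nat.card M * r := card_sup_zpowers hM hsr htM ht
  set S := K ⊓ normalizer (U : Set G) with hSdef
  have hd : zpowers t ⊓ S = ⊥ := by
    rcases inf_eq_bot_or_le (p := r) (X := zpowers t) (H := S) (by rw [Nat.card_zpowers, ht]) with h | h
    · exact h
    · exact absurd (h (mem_zpowers t)).2 htU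
  have hdec : ∀ k ∈ K, ∃ a ∈ zpowers t, ∃ b ∈ S, k = a * b := by
    intro k hk
    obtain ⟨m, hm, a, ha, rfl⟩ := exists_mul_of_mem_sup (zpowers_le.2 htM) hk
    obtain ⟨j, rfl⟩ := mem_powers_iff_mem_zpowers.2 ha
    have hm' : (t ^ j)⁻¹ * m * (t ^ j) ∈ M :=
      (mem_normalizer_iff''.1 (pow_mem htM j) m).1 hm
    obtain ⟨i, hi⟩ := horb _ hm'
    refine ⟨t ^ (j + i), pow_mem (mem_zpowers t) _, (t ^ (j + i))⁻¹ * (m * t ^ j), Subgroup.mem_inf.2 ⟨?_, ?_⟩, by group⟩
    · exact mul_mem (inv_mem (mem_sup_right (pow_mem (mem_zpowers t) _))) hk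
    · rw [mem_normalizer_iff_conj_smul, show (t ^ (j + i))⁻¹ * (m * t ^ j) =
        (t ^ i)⁻¹ * ((t ^ j)⁻¹ * m * t ^ j) by rw [pow_add]; group, ← conj_smul_conj_smul, hi,
        conj_smul_conj_smul, inv_mul_cancel, map_one, one_smul]
  let f : zpowers t × S → K := fun x => ⟨(x.1 : G) * (x.2 : G),
    mul_mem (mem_sup_right x.1.2) x.2.2.1⟩
  have hf : Function.Bijective f := by
    refine ⟨fun x y h => ?_, fun k => ?_⟩
    · have h1 : (x.1 : G) * x.2 = y.1 * y.2 := congrArg Subtype.val h
      have h2 : (y.1 : G)⁻¹ * x.1 ∈ zpowers t ⊓ S := Subgroup.mem_inf.2 ⟨mul_mem (inv_mem y.1.2) x.1.2, by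
        have h4 : (y.1 : G)⁻¹ * x.1 = y.2 * (x.2 : G)⁻¹ := by
          rw [inv_mul_eq_iff_eq_mul, ← mul_assoc, eq_mul_inv_iff_mul_eq, h1]
        rw [h4]
        exact mul_mem y.2.2 (inv_mem x.2.2)⟩
      rw [hd, mem_bot, inv_mul_eq_one] at h2
      exact Prod.ext (Subtype.ext h2.symm) (Subtype.ext (by rw [← h2] at h1; exact mul_left_cancel h1))
    · obtain ⟨a, ha, b, hb, hk⟩ := hdec k k.2
      exact ⟨(⟨a, ha⟩, ⟨b, hb⟩), Subtype.ext hk.symm⟩
  have hS : Nat.card S = Nat.card M := by
    have h := Nat.card_eq_of_bijective f hf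
    rw [Nat.card_prod, Nat.card_zpowers, ht, hK, mul_comm (Nat.card M)] at h
    exact Nat.eq_of_mul_eq_mul_left hr.out.pos h
  have hSs : IsPGroup s S := by
    obtain ⟨k, hk⟩ := hM.exists_card_eq
    exact IsPGroup.of_card (hS.trans hk)
  have hSM : S ≤ normalizer (M : Set G) :=
    inf_le_left.trans (sup_le le_normalizer (zpowers_le.2 htM))
  have hMS : IsPGroup s ↥(M ⊔ S) := hM.to_sup_of_normal_left' hSs hSM
  have heq : M = M ⊔ S := by
    refine eq_of_le_of_card_ge le_sup_left (Nat.le_of_dvd Nat.card_pos ?_)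
    have h1 : Nat.card ↥(M ⊔ S) ∣ Nat.card M * r := hK ▸ card_dvd_of_le (sup_le le_sup_left inf_le_left)
    refine Nat.Coprime.dvd_of_dvd_mul_right ?_ h1
    obtain ⟨k, hk⟩ := hMS.exists_card_eq
    rw [hk]
    exact ((Nat.coprime_primes hs.out hr.out).2 hsr.symm).pow_left k
  have hle : S ≤ M := heq.symm ▸ le_sup_right
  exact (eq_of_le_of_card_ge hle hS.ge).ge.trans inf_le_right

/-- In an orbit of a group on which `t` is fixed-point-free, `t` fixes at most one point. -/
theorem fixed_unique [hs : Fact s.Prime] {M U : Subgroup G} (hM : IsPGroup s M) (hsr : r ≠ s)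
    (htM : t ∈ normalizer (M : Set G)) (ht : orderOf t = r) (hfpf : M ⊓ centralizer (zpowers t : Set G) = ⊥)
    (htU : t ∈ normalizer (U : Set G)) {m : G} (hm : m ∈ M)
    (htm : t ∈ normalizer ((MulAut.conj m • U : Subgroup G) : Set G)) : MulAut.conj m • U = U := by
  set K := M ⊔ zpowers t with hKdef
  have hK : Nat.card K = Nat.card M * r := card_sup_zpowers hM hsr htM ht
  set X := K ⊓ normalizer (U : Set G) with hX
  have hcard : Nat.card (zpowers t) = r := by rw [Nat.card_zpowers, ht]
  have htX : zpowers t ≤ X := zpowers_le.2 ⟨mem_sup_right (mem_zpowers t), htU⟩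
  set t' := m⁻¹ * t * m with ht'
  have ht'X : zpowers t' ≤ X := by
    refine zpowers_le.2 (Subgroup.mem_inf.2 ⟨mul_mem (mul_mem (inv_mem (mem_sup_left hm)) (mem_sup_right (mem_zpowers t)))
      (mem_sup_left hm), ?_⟩)
    rw [mem_normalizer_iff_conj_smul, ← conj_smul_conj_smul, ← conj_smul_conj_smul,
      conj_smul_self_of_mem_normalizer htm, conj_smul_conj_smul, inv_mul_cancel, map_one, one_smul]
  have hcard' : Nat.card (zpowers t') = r := by
    rw [Nat.card_zpowers, ht', ← ht]
    have := orderOf_injective (MulAut.conj m⁻¹).toMonoidHom (MulAut.conj m⁻¹).injective t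
    simpa [MulAut.conj_apply] using this
  have hsyl : ∀ Y : Subgroup G, Nat.card Y = r → Y ≤ X → SylIn r Y X := by
    intro Y hY hYX
    refine ⟨hYX, isPGroup_of_card_prime r hY, fun hd => ?_⟩
    have h2 : r * Y.relIndex X ∣ r * Nat.card M := by
      rw [mul_comm r (Nat.card M), ← hK, ← hY, ← relIndex_bot_left,
        relIndex_mul_relIndex ⊥ Y X bot_le hYX, relIndex_bot_left]
      exact card_dvd_of_le inf_le_left
    exact hsr (prime_eq_of_dvd_isPGroup hM hr.out (hd.trans (Nat.dvd_of_mul_dvd_mul_left hr.out.pos h2)))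
  obtain ⟨g, hg, hgt⟩ := (hsyl _ hcard' ht'X).exists_conj_eq (hsyl _ hcard htX)
  obtain ⟨n, hn, a, ha, rfl⟩ := exists_mul_of_mem_sup (zpowers_le.2 htM) hg.1
  rw [← conj_smul_conj_smul, conj_smul_self_of_mem_normalizer (le_normalizer ha)] at hgt
  have hnU : n ∈ normalizer (U : Set G) :=
    (Subgroup.mul_mem_cancel_right _ (zpowers_le.2 htU ha)).1 hg.2
  have hmn : m * n ∈ normalizer (zpowers t : Set G) := by
    rw [mem_normalizer_iff_conj_smul, ← conj_smul_conj_smul, hgt, ht', conj_smul_eq_map,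
      MonoidHom.map_zpowers]
    congr 1
    simp [MulAut.conj_apply, mul_assoc]
  have hd : M ⊓ zpowers t = ⊥ := disjoint_of_coprime (by
    obtain ⟨k, hk⟩ := hM.exists_card_eq
    rw [hk, hcard]
    exact ((Nat.coprime_primes hs.out hr.out).2 hsr.symm).pow_left k)
  have hmn1 : m * n ∈ M ⊓ centralizer (zpowers t : Set G) :=
    ⟨mul_mem hm hn, mem_centralizer_of_mem_normalizer (zpowers_le.2 htM) hd (mul_mem hm hn) hmn⟩
  rw [hfpf, mem_bot, mul_eq_one_iff_eq_inv] at hmn1
  rw [hmn1]
  exact conj_smul_self_of_mem_normalizer (inv_mem hnU)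

/-- Elements of `A` lying in all the hyperplanes occurring in `V` centralise `V`. -/
theorem mem_centralizer_of_hyperplanes (cfg : Cfg p q r V A t) {c : G} (hc : c ∈ A)
    (hall : ∀ U, Hyp' q V A U → c ∈ U) : c ∈ centralizer (V : Set G) := by
  have hAc : ∀ a ∈ A, ∀ b ∈ A, a * b = b * a := fun a ha b hb =>
    CfsgLib.PGroup.elemAb_comm cfg.elemA ha hb
  suffices key : ∀ n, ∀ W : Subgroup G, W ≤ A → Nat.card A - Nat.card W = n →
      V ⊓ centralizer (W : Set G) ≤ centralizer ({c} : Set G) by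
    refine mem_centralizer_iff.2 fun v hv => ?_
    exact mem_centralizer_singleton_iff.1 (key _ ⊥ bot_le rfl
      ⟨hv, mem_centralizer_iff.2 fun y hy => by rw [mem_bot.1 hy, one_mul, mul_one]⟩)
  intro n
  induction n using Nat.strong_induction_on with
  | _ n ih =>
  intro W hWA hn v hv
  rw [mem_centralizer_singleton_iff]
  by_cases hAv : A ≤ centralizer ({v} : Set G)
  · exact (mem_centralizer_singleton_iff.1 (hAv hc)).symm
  have hWv : W ≤ centralizer ({v} : Set G) := fun x hx =>
    mem_centralizer_singleton_iff.2 (mem_centralizer_iff.1 hv.2 x hx)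
  obtain ⟨a, ha, haW⟩ := SetLike.not_le_iff_exists.1 (fun h : A ≤ W => hAv (h.trans hWv))
  set W₁ := W ⊔ zpowers a
  have hW₁A : W₁ ≤ A := sup_le hWA (zpowers_le.2 ha)
  by_cases hW₁ : A ≤ W₁
  · -- `W` is a hyperplane
    have hcard : Nat.card W * q = Nat.card A := by
      have haq : orderOf a = q := orderOf_eq_prime (cfg.elemA.2 a ha) fun e => haW (e ▸ one_mem W)
      rw [← le_antisymm hW₁A hW₁, card_sup_of_disjoint ?_ ?_, Nat.card_zpowers, haq]
      · exact zpowers_le.2 (centralizer_le_normalizer _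
          (mem_centralizer_iff.2 fun x hx => hAc x (hWA hx) a ha))
      · rcases inf_eq_bot_or_le (p := q) (X := zpowers a) (H := W) (by rw [Nat.card_zpowers, haq]) with h | h
        · rwa [inf_comm]
        · exact absurd (h (mem_zpowers a)) haW
    exact (mem_centralizer_singleton_iff.1 (hWv (hall W ⟨hWA, hcard, v, hv.1, hWv, hAv⟩))).symm
  obtain ⟨b, hb, hbW⟩ := SetLike.not_le_iff_exists.1 hW₁
  set B := zpowers a ⊔ zpowers b
  have hBA : B ≤ A := sup_le (zpowers_le.2 ha) (zpowers_le.2 hb)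
  have hBW : ∀ β ∈ B, β ∈ W → β = 1 := by
    intro β hβ hβW
    have hn' : zpowers b ≤ normalizer (zpowers a : Set G) := zpowers_le.2 (centralizer_le_normalizer _
      (mem_centralizer_iff.2 fun x hx => hAc x (zpowers_le.2 ha hx) b hb))
    obtain ⟨x, hx, y, hy, rfl⟩ := exists_mul_of_mem_sup hn' hβ
    have hy1 : y = 1 := by
      by_contra hy1
      have hyW : y ∈ W₁ := by
        rw [show y = x⁻¹ * (x * y) by group]
        exact mul_mem (inv_mem (mem_sup_right hx)) (mem_sup_left hβW)
      have hzy : zpowers y = zpowers b := eq_of_le_of_card_ge (zpowers_le.2 hy) (by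
        rw [Nat.card_zpowers, Nat.card_zpowers, orderOf_eq_prime (cfg.elemA.2 y (zpowers_le.2 hb hy)) hy1]
        exact Nat.le_of_dvd hq.out.pos (orderOf_dvd_of_pow_eq_one (cfg.elemA.2 b hb)))
      exact hbW (zpowers_le.2 hyW (hzy.ge (mem_zpowers b)))
    rw [hy1, mul_one] at hβW ⊢
    by_contra hx1
    have hzx : zpowers x = zpowers a := eq_of_le_of_card_ge (zpowers_le.2 hx) (by
      rw [Nat.card_zpowers, Nat.card_zpowers, orderOf_eq_prime (cfg.elemA.2 x (zpowers_le.2 ha hx)) hx1]
      exact Nat.le_of_dvd hq.out.pos (orderOf_dvd_of_pow_eq_one (cfg.elemA.2 a ha)))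
    exact haW (zpowers_le.2 hβW (hzx.ge (mem_zpowers a)))
  have hBnc : ¬ IsCyclic B := by
    intro hcyc
    have h1 : Nat.card B ≤ q := by
      rw [← IsCyclic.exponent_eq_card]
      exact Nat.le_of_dvd hq.out.pos (Monoid.exponent_dvd_of_forall_pow_eq_one fun x => Subtype.ext (by
        rw [Subgroup.coe_pow, Subgroup.coe_one]; exact cfg.elemA.2 x (hBA x.2)))
    have h2 : zpowers a = B := eq_of_le_of_card_ge le_sup_left (by
      rw [Nat.card_zpowers, orderOf_eq_prime (cfg.elemA.2 a ha) fun e => haW (e ▸ one_mem W)]; exact h1)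
    exact hbW (mem_sup_right (h2.ge (mem_sup_right (mem_zpowers b))))
  set L := V ⊓ centralizer (W : Set G)
  have hBL : B ≤ normalizer (L : Set G) := le_normalizer_inf (hBA.trans cfg.hAV)
    (fun x hx => normalizer_le_normalizer_centralizer W (centralizer_le_normalizer _
      (mem_centralizer_iff.2 fun y hy => hAc y (hWA hy) x (hBA hx))))
  have hcop : (Nat.card B).Coprime (Nat.card L) := by
    obtain ⟨k, hk⟩ := ((CfsgLib.PGroup.elemAb_isPGroup cfg.elemV).to_le (inf_le_left : L ≤ V)).exists_card_eq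
    rw [hk]
    exact ((card_elem_coprime hp.out cfg.elemA (Ne.symm cfg.qp)).symm.coprime_dvd_left
      (card_dvd_of_le hBA)).pow_right k
  have hgen := iSup_centralizer_eq (fun x hx y hy => hAc x (hBA hx) y (hBA hy)) hBnc hBL hcop
  have hle : L ≤ centralizer ({c} : Set G) := hgen ▸ iSup₂_le fun β hβ => fun w hw => by
    have hlt : Nat.card A - Nat.card ↥(W ⊔ zpowers β) < n := by
      have h1 : W < W ⊔ zpowers β := lt_of_le_of_ne le_sup_left fun e =>
        hβ.2 (hBW β hβ.1 (e ▸ mem_sup_right (mem_zpowers β)))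
      have h2 : Nat.card W < Nat.card ↥(W ⊔ zpowers β) :=
        lt_of_le_of_ne (card_le_of_le h1.le) fun e => h1.ne (eq_of_le_of_card_ge h1.le e.ge)
      have h3 := card_le_of_le (sup_le hWA (zpowers_le.2 (hBA hβ.1)))
      omega
    refine ih _ hlt _ (sup_le hWA (zpowers_le.2 (hBA hβ.1))) rfl ⟨hw.1.1, ?_⟩
    refine mem_centralizer_iff.2 fun y hy => ?_
    have hle' : W ⊔ zpowers β ≤ centralizer ({w} : Set G) := sup_le
      (fun z hz => mem_centralizer_singleton_iff.2 (mem_centralizer_iff.1 hw.1.2 z hz))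
      (zpowers_le.2 (mem_centralizer_singleton_iff.2 (mem_centralizer_singleton_iff.1 hw.2).symm))
    exact mem_centralizer_singleton_iff.1 (hle' hy)
  exact mem_centralizer_singleton_iff.1 (hle hv)

/-- The abelian case. -/
theorem le_centralizer_abelian (cfg : Cfg p q r V A t)
    (hfaith : A ⊓ centralizer (V : Set G) = ⊥) {M : Subgroup G} (hp2 : p ≠ 2) (hr2 : r ≠ 2)
    (hM : IsPGroup p M) (hMA : M ≤ normalizer (A : Set G))
    (hMV : M ≤ normalizer (V : Set G)) (htM : t ∈ normalizer (M : Set G))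
    (hfpf : M ⊓ centralizer (zpowers t : Set G) = ⊥) : M ≤ centralizer (A : Set G) := by
  have hsr := cfg.rp
  have hAc : ∀ a ∈ A, ∀ b ∈ A, a * b = b * a := fun a ha b hb =>
    CfsgLib.PGroup.elemAb_comm cfg.elemA ha hb
  have hgoodmove : ∀ W, Hyp' q V A W → t ∉ normalizer (W : Set G) → Good q V A t W := fun W hW htW =>
    ⟨hW, fun h => htW (mem_normalizer_of_commutator_le hW.1 h)⟩
  have hconj : ∀ {m}, m ∈ M → ∀ U, Hyp' q V A U → Hyp' q V A (MulAut.conj m • U) :=
    fun hm U hU => hyp'_conj (hMA hm) (hMV hm) hU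
  -- good hyperplanes fixed by `t` are fixed by `M`
  have hfixgood : ∀ U, Good q V A t U → t ∈ normalizer (U : Set G) → M ≤ normalizer (U : Set G) := by
    intro U hU htU m hm
    rw [mem_normalizer_iff_conj_smul]
    by_cases htm : t ∈ normalizer ((MulAut.conj m • U : Subgroup G) : Set G)
    · exact fixed_unique hM hsr htM cfg.ordt hfpf htU hm htm
    · obtain ⟨i, hi⟩ := good_orbit cfg hU (hgoodmove _ (hconj hm U hU.1) htm)
      rw [hi, conj_smul_self_of_mem_normalizer (pow_mem htU i)]
  have hinv : ∀ {m : G} {U W : Subgroup G}, MulAut.conj m • U = W → U = MulAut.conj m⁻¹ • W :=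
    fun h => by rw [← h, conj_smul_conj_smul, inv_mul_cancel, map_one, one_smul]
  have hbad : ∀ U, Hyp' q V A U → ⁅A, zpowers t⁆ ≤ U → M ≤ normalizer (U : Set G) := by
    intro U hU hg m hm
    rw [mem_normalizer_iff_conj_smul]
    have htU := mem_normalizer_of_commutator_le hU.1 hg
    by_cases htm : t ∈ normalizer ((MulAut.conj m • U : Subgroup G) : Set G)
    · exact fixed_unique hM hsr htM cfg.ordt hfpf htU hm htm
    · exfalso
      -- the image is good, so its orbit returns to `U`
      set W := MulAut.conj m • U with hW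
      have hWg : Good q V A t W := hgoodmove _ (hconj hm U hU) htm
      have hUW : U = MulAut.conj m⁻¹ • W := hinv hW.symm
      have hne : MulAut.conj m⁻¹ • W ≠ W := fun e => htm (by rw [← e, ← hUW]; exact htU)
      apply hne
      obtain ⟨n, hn1, hn2⟩ : ∃ n, n ∈ M ∧ t ∈ normalizer ((MulAut.conj n • W : Subgroup G) : Set G) :=
        ⟨m⁻¹, inv_mem hm, hUW ▸ htU⟩
      -- every image of `W` is either `U` or in the `t`-orbit of `W`
      have hcases : ∀ k ∈ M, MulAut.conj k • W = U ∨ ∃ i : ℕ, MulAut.conj k • W = MulAut.conj (t ^ i) • W := by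
        intro k hk
        by_cases htk : t ∈ normalizer ((MulAut.conj k • W : Subgroup G) : Set G)
        · left
          rw [hW, conj_smul_conj_smul] at htk ⊢
          exact fixed_unique hM hsr htM cfg.ordt hfpf htU (mul_mem hk hm) htk
        · exact Or.inr (good_orbit cfg hWg (hgoodmove _ (hconj hk W hWg.1) htk))
      -- count the orbit
      let O : Set (Subgroup G) := Set.range fun k : M => MulAut.conj (k : G) • W
      have hO : O = insert U (Set.range fun i : Fin r => MulAut.conj (t ^ (i : ℕ)) • W) := by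
        ext X
        constructor
        · rintro ⟨k, rfl⟩
          rcases hcases k k.2 with h | ⟨i, hi⟩
          · exact Or.inl h
          · refine Or.inr ⟨⟨i % r, Nat.mod_lt _ hr.out.pos⟩, ?_⟩
            show MulAut.conj (t ^ (i % r)) • W = MulAut.conj (k : G) • W
            rw [hi, ← cfg.ordt, pow_mod_orderOf]
        · rintro (rfl | ⟨i, rfl⟩)
          · exact ⟨⟨m⁻¹, inv_mem hm⟩, hUW.symm⟩
          · set a := t ^ (i : ℕ)
            have ha : a * m * a⁻¹ ∈ M := normalizer_conj_mem (pow_mem htM _) hm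
            refine ⟨⟨a * m * a⁻¹ * m⁻¹, mul_mem ha (inv_mem hm)⟩, ?_⟩
            show MulAut.conj (a * m * a⁻¹ * m⁻¹) • W = MulAut.conj a • W
            rw [← conj_smul_conj_smul, ← hUW, ← conj_smul_conj_smul,
              conj_smul_self_of_mem_normalizer (inv_mem (pow_mem htU _)), ← conj_smul_conj_smul, hW]
      have hinj : Function.Injective fun i : Fin r => MulAut.conj (t ^ (i : ℕ)) • W := by
        have key : ∀ i j : ℕ, i < j → j < r →
            MulAut.conj (t ^ i) • W ≠ MulAut.conj (t ^ j) • W := by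
          intro i j hij hj e
          refine htm (pow_mem_normalizer_imp cfg (i := j - i) (fun hd => ?_) ?_)
          · have := Nat.le_of_dvd (by omega) hd; omega
          · rw [mem_normalizer_iff_conj_smul, show t ^ (j - i) = (t ^ i)⁻¹ * t ^ j by
              rw [show j = i + (j - i) by omega, pow_add, Nat.add_sub_cancel_left, inv_mul_cancel_left],
              ← conj_smul_conj_smul, ← e, conj_smul_conj_smul, inv_mul_cancel, map_one, one_smul]
        intro i j hij
        rcases lt_trichotomy (i : ℕ) j with h | h | h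
        · exact absurd hij (key _ _ h j.2)
        · exact Fin.ext h
        · exact absurd hij.symm (key _ _ h i.2)
      have hnot : U ∉ Set.range fun i : Fin r => MulAut.conj (t ^ (i : ℕ)) • W := by
        rintro ⟨i, hi⟩
        change MulAut.conj (t ^ (i : ℕ)) • W = U at hi
        apply htm
        rw [show W = MulAut.conj (t ^ (i : ℕ))⁻¹ • U from hinv hi,
          conj_smul_self_of_mem_normalizer (inv_mem (pow_mem htU _))]
        exact htU
      have hcount : O.ncard = r + 1 := by
        rw [hO, Set.ncard_insert_of_notMem hnot, Set.ncard_range_of_injective hinj, Nat.card_fin]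
      have hdvd : O.ncard ∣ Nat.card M := by
        set St := (normalizer (W : Set G)).subgroupOf M
        let g : M ⧸ St → Subgroup G := Quotient.lift (fun k : M => MulAut.conj (k : G) • W) fun a b h => by
          replace h := QuotientGroup.leftRel_apply.1 h
          rw [mem_subgroupOf, Subgroup.coe_mul, Subgroup.coe_inv,
            mem_normalizer_iff_conj_smul] at h
          show MulAut.conj (a : G) • W = MulAut.conj (b : G) • W
          conv_lhs => rw [← h]
          rw [conj_smul_conj_smul, mul_inv_cancel_left]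
        have hg : Set.range g = O := Set.ext fun X =>
          ⟨fun ⟨x, hx⟩ => by
            induction x using QuotientGroup.induction_on with
            | _ x => exact ⟨x, hx⟩,
          fun ⟨x, hx⟩ => ⟨(x : M ⧸ St), hx⟩⟩
        have hginj : Function.Injective g := fun a b h => by
          induction a using QuotientGroup.induction_on with
          | _ a =>
            induction b using QuotientGroup.induction_on with
            | _ b =>
              rw [QuotientGroup.eq, mem_subgroupOf, Subgroup.coe_mul, Subgroup.coe_inv,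
                mem_normalizer_iff_conj_smul, ← conj_smul_conj_smul]
              rw [show MulAut.conj (b : G) • W = MulAut.conj (a : G) • W from h.symm, conj_smul_conj_smul,
                inv_mul_cancel, map_one, one_smul]
        rw [← hg, Set.ncard_range_of_injective hginj, ← index_eq_card]
        exact index_dvd_card St
      obtain ⟨k, hk⟩ := hM.exists_card_eq
      have heven : 2 ∣ Nat.card M := (show 2 ∣ O.ncard by
        rw [hcount]; exact even_iff_two_dvd.1 (hr.out.odd_of_ne_two hr2).add_one).trans hdvd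
      rw [hk] at heven
      exact absurd ((Nat.prime_dvd_prime_iff_eq Nat.prime_two hp.out).1 (Nat.prime_two.dvd_of_dvd_pow heven))
        (Ne.symm hp2)
  have hall : ∀ U, Hyp' q V A U → M ≤ normalizer (U : Set G) := by
    intro U hU
    by_cases hg : ⁅A, zpowers t⁆ ≤ U
    · exact hbad U hU hg
    by_cases htU : t ∈ normalizer (U : Set G)
    · exact hfixgood U ⟨hU, hg⟩ htU
    refine orbit_stable hM hsr htM cfg.ordt fun m hm => ?_
    by_cases htm : t ∈ normalizer ((MulAut.conj m • U : Subgroup G) : Set G)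
    · exfalso
      set W := MulAut.conj m • U with hW
      have hWh : Hyp' q V A W := hconj hm U hU
      have hWU : MulAut.conj m⁻¹ • W = U := (hinv hW.symm).symm
      have hMW : M ≤ normalizer (W : Set G) := by
        by_cases hWg : ⁅A, zpowers t⁆ ≤ W
        · exact hbad W hWh hWg
        · exact hfixgood W ⟨hWh, hWg⟩ htm
      have h1 := mem_normalizer_iff_conj_smul.1 (hMW (inv_mem hm))
      rw [hWU] at h1
      exact htU (h1 ▸ htm)
    · exact good_orbit cfg ⟨hU, hg⟩ (hgoodmove _ (hconj hm U hU) htm)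
  have hsmall : ∀ U, Hyp' q V A U → ∀ m ∈ M, q < p → ∀ a ∈ A, a⁻¹ * (m * a * m⁻¹) ∈ U := by
    intro U hU m hm hqp a ha
    have hmU := hall U hU hm
    have hmA := hMA hm
    set U' := U.subgroupOf A
    have hU'n : U'.Normal := (normal_subgroupOf_iff_le_normalizer hU.1).2
      fun x hx => centralizer_le_normalizer _
        (mem_centralizer_iff.2 fun y hy => hAc y (hU.1 hy) x hx)
    have hcardQ : Nat.card (A ⧸ U') = q := by
      rw [← index_eq_card]
      refine Nat.eq_of_mul_eq_mul_left (Nat.card_pos (α := U')) ?_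
      rw [card_mul_index, Nat.card_congr (subgroupOfEquivOfLe hU.1).toEquiv, hU.2.1]
    set N := normalizer (A : Set G) ⊓ normalizer (U : Set G)
    have hmN : m ∈ N := ⟨hmA, hmU⟩
    let c : N →* MulAut A := (normalizerMonoidHom A).comp (inclusion inf_le_left)
    have hmap : ∀ g : N, U'.map (c g).toMonoidHom = U' := by
      intro g
      ext ⟨x, hx⟩
      constructor
      · rintro ⟨⟨y, hy⟩, hyU, hyx⟩
        have h2 : (g : G) * y * (g : G)⁻¹ = x := congrArg Subtype.val hyx
        exact mem_subgroupOf.2 (h2 ▸ normalizer_conj_mem g.2.2 (mem_subgroupOf.1 hyU))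
      · intro hxU
        refine ⟨⟨(g : G)⁻¹ * x * (g : G), (mem_normalizer_iff''.1 g.2.1 x).1 hx⟩,
          mem_subgroupOf.2 ((mem_normalizer_iff''.1 g.2.2 x).1 (mem_subgroupOf.1 hxU)), Subtype.ext ?_⟩
        show (g : G) * ((g : G)⁻¹ * x * (g : G)) * (g : G)⁻¹ = x
        group
    let θ : N →* MulAut (A ⧸ U') :=
      { toFun := fun g => QuotientGroup.congr U' U' (c g) (hmap g)
        map_one' := MulEquiv.ext fun x => by
          induction x using QuotientGroup.induction_on with
          | _ x =>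
            show ((c 1 x : A) : A ⧸ U') = (x : A ⧸ U')
            rw [map_one]; rfl
        map_mul' := fun g h => MulEquiv.ext fun x => by
          induction x using QuotientGroup.induction_on with
          | _ x =>
            show ((c (g * h) x : A) : A ⧸ U') = ((c g (c h x) : A) : A ⧸ U')
            rw [map_mul]; rfl }
    have hone : θ ⟨m, hmN⟩ = 1 := by
      rw [← orderOf_eq_one_iff]
      obtain ⟨k, hk⟩ := hM.exists_card_eq
      have : IsCyclic (A ⧸ U') := isCyclic_of_prime_card hcardQ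
      refine Nat.eq_one_of_dvd_coprimes (a := p ^ k) (b := q - 1) ?_ ?_ ?_
      · refine Nat.Coprime.pow_left k ((hp.out.coprime_iff_not_dvd).2 fun h => ?_)
        have := Nat.le_of_dvd (by have := hq.out.two_le; omega) h
        omega
      · refine (orderOf_map_dvd θ _).trans ?_
        rw [Subgroup.orderOf_mk, ← hk]
        exact Subgroup.orderOf_dvd_natCard M hm
      · refine (_root_.orderOf_dvd_natCard _).trans ?_
        rw [IsCyclic.card_mulAut, hcardQ, Nat.totient_prime hq.out]
    have h := DFunLike.congr_fun hone ((⟨a, ha⟩ : A) : A ⧸ U')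
    exact mem_subgroupOf.1 (QuotientGroup.eq.1 h.symm)
  -- `M` acts on each `A / U` through a commutative group, so trivially
  have htriv : ∀ U, Hyp' q V A U → ∀ m ∈ M, ∀ a ∈ A, a⁻¹ * (m * a * m⁻¹) ∈ U := by
    intro U hU
    have hMU := hall U hU
    set N := normalizer (A : Set G) ⊓ normalizer (U : Set G)
    let S : Subgroup G :=
      { carrier := {g | g ∈ N ∧ ∀ a ∈ A, a⁻¹ * (g * a * g⁻¹) ∈ U}
        one_mem' := ⟨one_mem N, fun a _ => by simp⟩
        mul_mem' := fun {g h} hg hh => ⟨mul_mem hg.1 hh.1, fun a ha => by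
          have e : a⁻¹ * (g * h * a * (g * h)⁻¹) = a⁻¹ * (h * a * h⁻¹) *
              ((h * a * h⁻¹)⁻¹ * (g * (h * a * h⁻¹) * g⁻¹)) := by group
          rw [e]
          exact mul_mem (hh.2 a ha) (hg.2 _ (normalizer_conj_mem hh.1.1 ha))⟩
        inv_mem' := fun {g} hg => ⟨inv_mem hg.1, fun a ha => by
          have hb : g⁻¹ * a * g ∈ A := (mem_normalizer_iff''.1 hg.1.1 a).1 ha
          have h1 := hg.2 _ hb
          have e : a⁻¹ * (g⁻¹ * a * g⁻¹⁻¹) = ((g⁻¹ * a * g)⁻¹ * (g * (g⁻¹ * a * g) * g⁻¹))⁻¹ := by group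
          rw [e]
          exact inv_mem h1⟩ }
    by_cases htU : t ∈ normalizer (U : Set G)
    · obtain ⟨a₀, ha₀, ha₀U⟩ := SetLike.not_le_iff_exists.1 (fun h : A ≤ U => by
        have h1 := card_le_of_le h
        have h2 := hU.2.1
        have := hq.out.two_le
        have h3 : 0 < Nat.card U := Nat.card_pos
        nlinarith)
      have hgenA : ∀ a ∈ A, ∃ k : ℕ, ∃ u ∈ U, a = a₀ ^ k * u := by
        intro a ha
        have hn : (U.subgroupOf A).Normal := (normal_subgroupOf_iff_le_normalizer hU.1).2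
          fun x hx => centralizer_le_normalizer _
            (mem_centralizer_iff.2 fun y hy => hAc y (hU.1 hy) x hx)
        have hidx : (U.subgroupOf A).index = q := by
          refine Nat.eq_of_mul_eq_mul_left (Nat.card_pos (α := U.subgroupOf A)) ?_
          rw [card_mul_index, Nat.card_congr (subgroupOfEquivOfLe hU.1).toEquiv, hU.2.1]
        have hpg := CfsgLib.PGroup.elemAb_isPGroup cfg.elemA
        have hlt : U.subgroupOf A < zpowers (⟨a₀, ha₀⟩ : A) ⊔ U.subgroupOf A :=
          lt_of_le_of_ne le_sup_right fun e => ha₀U (mem_subgroupOf.1 (e ▸ mem_sup_left (mem_zpowers _)))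
        have htop : zpowers (⟨a₀, ha₀⟩ : A) ⊔ U.subgroupOf A = ⊤ := by
          rw [← index_eq_one]
          refine ((Nat.dvd_prime hq.out).1 (hidx ▸ index_dvd_of_le hlt.le)).resolve_right fun e => ?_
          refine hlt.ne (eq_of_le_of_card_ge hlt.le (le_of_eq ?_))
          refine Nat.eq_of_mul_eq_mul_right hq.out.pos ?_
          rw [show Nat.card ↥(zpowers (⟨a₀, ha₀⟩ : A) ⊔ U.subgroupOf A) * q = Nat.card A by
              rw [← e]; exact card_mul_index _,
            show Nat.card ↥(U.subgroupOf A) * q = Nat.card A by rw [← hidx]; exact card_mul_index _]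
        obtain ⟨x, hx, y, hy, hxy⟩ := mem_sup_of_normal_right.1 (htop ▸ mem_top (⟨a, ha⟩ : A) :
          (⟨a, ha⟩ : A) ∈ zpowers (⟨a₀, ha₀⟩ : A) ⊔ U.subgroupOf A)
        obtain ⟨k, rfl⟩ := mem_powers_iff_mem_zpowers.2 hx
        exact ⟨k, y, mem_subgroupOf.1 hy, (congrArg Subtype.val hxy).symm⟩
      have hcomm : ∀ g ∈ N, ∀ h ∈ N, ⁅g, h⁆ ∈ S := by
        intro g hg h hh
        refine ⟨mul_mem (mul_mem (mul_mem hg hh) (inv_mem hg)) (inv_mem hh), fun a ha => ?_⟩
        obtain ⟨i, u, hu, hi⟩ := hgenA _ (normalizer_conj_mem hg.1 ha₀)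
        obtain ⟨j, w, hw, hj⟩ := hgenA _ (normalizer_conj_mem hh.1 ha₀)
        have hgh : ∀ k : ℕ, ∀ {e : G}, e ∈ N → ∀ {l : ℕ} {z : G}, z ∈ U → e * a₀ * e⁻¹ = a₀ ^ l * z →
            ∃ z' ∈ U, e * a₀ ^ k * e⁻¹ = a₀ ^ (l * k) * z' := by
          intro k e he l z hz hel
          refine ⟨z ^ k, pow_mem hz k, ?_⟩
          have hcm : Commute (a₀ ^ l) z := hAc _ (pow_mem ha₀ l) _ (hU.1 hz)
          rw [← conj_pow, hel, hcm.mul_pow, ← pow_mul]
        obtain ⟨z₁, hz₁, h1⟩ := hgh j hg hu hi
        obtain ⟨z₂, hz₂, h2⟩ := hgh i hh hw hj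
        have e1 : ∃ z ∈ U, g * h * a₀ * (g * h)⁻¹ = a₀ ^ (i * j) * z := by
          refine ⟨z₁ * (g * w * g⁻¹), mul_mem hz₁ (normalizer_conj_mem hg.2 hw), ?_⟩
          rw [show g * h * a₀ * (g * h)⁻¹ = g * (h * a₀ * h⁻¹) * g⁻¹ by group, hj,
            show g * (a₀ ^ j * w) * g⁻¹ = g * a₀ ^ j * g⁻¹ * (g * w * g⁻¹) by group, h1, mul_assoc]
        have e2 : ∃ z ∈ U, h * g * a₀ * (h * g)⁻¹ = a₀ ^ (i * j) * z := by
          refine ⟨z₂ * (h * u * h⁻¹), mul_mem hz₂ (normalizer_conj_mem hh.2 hu), ?_⟩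
          rw [show h * g * a₀ * (h * g)⁻¹ = h * (g * a₀ * g⁻¹) * h⁻¹ by group, hi,
            show h * (a₀ ^ i * u) * h⁻¹ = h * a₀ ^ i * h⁻¹ * (h * u * h⁻¹) by group, h2, mul_assoc,
            Nat.mul_comm i j]
        obtain ⟨z, hz, e1⟩ := e1
        obtain ⟨z', hz', e2⟩ := e2
        -- `⁅g, h⁆` fixes `a₀` modulo `U`
        have hb : (h * g)⁻¹ ∈ N := inv_mem (mul_mem hh hg)
        set b := (h * g)⁻¹ * a₀ * (h * g) with hbdef
        have hbA : b ∈ A := by
          have := normalizer_conj_mem hb.1 ha₀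
          rwa [inv_inv] at this
        obtain ⟨k, v, hv, hk⟩ := hgenA b hbA
        have hzfix : a₀⁻¹ * (⁅g, h⁆ * a₀ * ⁅g, h⁆⁻¹) ∈ U := by
          have hcm : ∀ {e : G}, e ∈ N → ∀ {z : G}, z ∈ U → e * a₀ * e⁻¹ = a₀ ^ (i * j) * z →
              ∃ z'' ∈ U, e * b * e⁻¹ = a₀ ^ (i * j * k) * z'' := by
            intro e he z hz hee
            refine ⟨z ^ k * (e * v * e⁻¹), mul_mem (pow_mem hz k) (normalizer_conj_mem he.2 hv), ?_⟩
            have hc2 : Commute (a₀ ^ (i * j)) z := hAc _ (pow_mem ha₀ _) _ (hU.1 hz)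
            rw [hk, show e * (a₀ ^ k * v) * e⁻¹ = e * a₀ ^ k * e⁻¹ * (e * v * e⁻¹) by group, ← conj_pow,
              hee, hc2.mul_pow, ← pow_mul, mul_assoc]
          obtain ⟨y₁, hy₁, f1⟩ := hcm (mul_mem hg hh) hz e1
          obtain ⟨y₂, hy₂, f2⟩ := hcm (mul_mem hh hg) hz' e2
          have f2' : a₀ = a₀ ^ (i * j * k) * y₂ := by rw [← f2, hbdef]; group
          have f1' : ⁅g, h⁆ * a₀ * ⁅g, h⁆⁻¹ = a₀ ^ (i * j * k) * y₁ := by
            rw [← f1, hbdef, commutatorElement_def]; group
          rw [f1']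
          rw [show a₀⁻¹ = (a₀ ^ (i * j * k) * y₂)⁻¹ from congrArg (·⁻¹) f2']
          rw [mul_inv_rev, mul_assoc, inv_mul_cancel_left]
          exact mul_mem (inv_mem hy₂) hy₁
        obtain ⟨k', v', hv', rfl⟩ := hgenA a ha
        set c := ⁅g, h⁆
        have hcN : c ∈ N := mul_mem (mul_mem (mul_mem hg hh) (inv_mem hg)) (inv_mem hh)
        have hA1 : a₀⁻¹ * (c * a₀ * c⁻¹) ∈ A :=
          mul_mem (inv_mem ha₀) (normalizer_conj_mem hcN.1 ha₀)
        have hcm3 : Commute a₀ (a₀⁻¹ * (c * a₀ * c⁻¹)) := hAc _ ha₀ _ hA1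
        rw [show (a₀ ^ k' * v')⁻¹ * (c * (a₀ ^ k' * v') * c⁻¹) =
            v'⁻¹ * ((a₀ ^ k')⁻¹ * (c * a₀ ^ k' * c⁻¹)) * (c * v' * c⁻¹) by group, ← conj_pow,
          show c * a₀ * c⁻¹ = a₀ * (a₀⁻¹ * (c * a₀ * c⁻¹)) by group, hcm3.mul_pow, inv_mul_cancel_left]
        exact mul_mem (mul_mem (inv_mem hv') (pow_mem hzfix k')) (normalizer_conj_mem hcN.2 hv')
      have hzt : zpowers t ≤ N := le_inf (zpowers_le.2 cfg.htA) (zpowers_le.2 htU)
      have hMS : ⁅M, zpowers t⁆ ≤ S := commutator_le.2 fun g hg h hh =>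
        hcomm g ⟨hMA hg, hMU hg⟩ h (hzt hh)
      have hco : (Nat.card (zpowers t)).Coprime (Nat.card M) := by
        obtain ⟨k, hk⟩ := hM.exists_card_eq
        rw [Nat.card_zpowers, cfg.ordt, hk]
        exact ((Nat.coprime_primes hr.out hp.out).2 hsr).pow_right k
      have hgenM := commutator_sup_centralizer (zpowers_le.2 htM) hco (Or.inl (inferInstance))
      rw [hfpf, sup_bot_eq] at hgenM
      intro m hm a ha
      exact (hMS (hgenM.symm ▸ hm)).2 a ha
    · -- a moved hyperplane: `q < p`, so no room for `p`-automorphisms of `A / U`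
      intro m hm a ha
      have hqp : q < p := by
        have h1 := Nat.le_of_dvd (by have := hp.out.two_le; omega) (dvd_pred_of_moved cfg hU htU)
        have := hp.out.two_le
        omega
      exact hsmall U hU m hm hqp a ha
  intro m hm
  refine mem_centralizer_iff.2 fun a ha => ?_
  have h1 : a⁻¹ * (m * a * m⁻¹) ∈ A := mul_mem (inv_mem ha) (normalizer_conj_mem (hMA hm) ha)
  have h2 := mem_centralizer_of_hyperplanes cfg h1 fun U hU => htriv U hU m hm a ha
  have h3 : a⁻¹ * (m * a * m⁻¹) ∈ A ⊓ centralizer (V : Set G) := ⟨h1, h2⟩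
  rw [hfaith, mem_bot, inv_mul_eq_one] at h3
  exact eq_mul_inv_iff_mul_eq.1 h3

end CfsgLib.OddLocal.PLen
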