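import Cfsg.Agent.Lib.OddLocal.BGAction
import Cfsg.Agent.Lib.PGroup.ElemAbelian

/-!
An elementary abelian `q`-group `A` acting on an elementary abelian `p`-group `V` together with an
element `t` of prime order whose fixed points on `V` are cyclic: the hyperplanes of `A` not
containing `⁅A, t⁆` that occur in `V` form a single orbit under `t`.
-/

set_option autoImplicit false
set_option linter.unusedSectionVars false

namespace CfsgLib.OddLocal.PLen

open Cfsg Subgroup CfsgLib.Solvable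
open scoped commutatorElement Pointwise IsMulCommutative

variable {G : Type*} [Group G] [Finite G]

section Norm

variable {V : Subgroup G} [IsMulCommutative V]

/-- Conjugation by an element of `N(V)`. -/
def act (x : G) (hx : x ∈ normalizer (V : Set G)) (v : V) : V :=
  ⟨x * v * x⁻¹, normalizer_conj_mem hx v.2⟩

theorem act_mul (x : G) (hx : x ∈ normalizer (V : Set G)) (v w : V) :
    act x hx (v * w) = act x hx v * act x hx w := by
  ext; simp [act, mul_assoc]

/-- The norm over `X`. -/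
noncomputable def nrm (X : Subgroup G) (hX : X ≤ normalizer (V : Set G)) : V →* V :=
  letI := Fintype.ofFinite X
  { toFun := fun v => ∏ x : X, act (x : G) (hX x.2) v
    map_one' := Finset.prod_eq_one fun x _ => by ext; simp [act]
    map_mul' := fun v w => by rw [← Finset.prod_mul_distrib]; simp only [act_mul] }

theorem nrm_apply (X : Subgroup G) (hX : X ≤ normalizer (V : Set G)) [Fintype X] (v : V) :
    nrm X hX v = ∏ x : X, act (x : G) (hX x.2) v := by
  simp only [nrm, MonoidHom.coe_mk, OneHom.coe_mk]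
  exact Finset.prod_congr (Finset.ext fun x => by simp) fun x _ => rfl

theorem act_prod (x : G) (hx : x ∈ normalizer (V : Set G)) {ι : Type*} (s : Finset ι) (f : ι → V) :
    act x hx (∏ i ∈ s, f i) = ∏ i ∈ s, act x hx (f i) :=
  map_prod (MonoidHom.mk' (act x hx) (act_mul x hx)) f s

theorem act_act (x y : G) (hx : x ∈ normalizer (V : Set G)) (hy : y ∈ normalizer (V : Set G)) (v : V) :
    act x hx (act y hy v) = act (x * y) (mul_mem hx hy) v := by
  ext; simp [act, mul_assoc]

theorem nrm_act {X : Subgroup G} (hX : X ≤ normalizer (V : Set G)) {x : G} (hx : x ∈ X) (v : V) :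
    nrm X hX (act x (hX hx) v) = nrm X hX v := by
  have := Fintype.ofFinite X
  rw [nrm_apply, nrm_apply]
  refine Fintype.prod_equiv (Equiv.mulRight ⟨x, hx⟩) _ _ fun y => ?_
  rw [act_act]
  rfl

theorem act_nrm {X : Subgroup G} (hX : X ≤ normalizer (V : Set G)) {x : G} (hx : x ∈ X) (v : V) :
    act x (hX hx) (nrm X hX v) = nrm X hX v := by
  have := Fintype.ofFinite X
  rw [nrm_apply, act_prod]
  refine Fintype.prod_equiv (Equiv.mulLeft ⟨x, hx⟩) _ _ fun y => ?_
  rw [act_act]
  rfl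

theorem act_nrm_of_commute {X : Subgroup G} (hX : X ≤ normalizer (V : Set G)) {y : G}
    (hy : y ∈ normalizer (V : Set G)) (hc : ∀ x ∈ X, y * x = x * y) (v : V) :
    act y hy (nrm X hX v) = nrm X hX (act y hy v) := by
  have := Fintype.ofFinite X
  rw [nrm_apply, nrm_apply, act_prod]
  refine Finset.prod_congr rfl fun x _ => ?_
  rw [act_act, act_act]
  simp only [act, hc x x.2]

theorem nrm_of_fixed {X : Subgroup G} (hX : X ≤ normalizer (V : Set G)) {v : V}
    (h : ∀ x ∈ X, x * (v : G) = v * x) : nrm X hX v = v ^ Nat.card X := by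
  have := Fintype.ofFinite X
  rw [nrm_apply, Finset.prod_congr rfl (fun (x : X) _ => show act (x : G) (hX x.2) v = v from
    Subtype.ext (by show (x : G) * v * (x : G)⁻¹ = v; rw [h x x.2, mul_inv_cancel_right])),
    Finset.prod_const, Finset.card_univ, Nat.card_eq_fintype_card]

theorem commute_of_act_eq {x : G} {hx : x ∈ normalizer (V : Set G)} {v : V} (h : act x hx v = v) :
    x * (v : G) = v * x :=
  mul_inv_eq_iff_eq_mul.1 (congrArg Subtype.val h)

end Norm

/-- The configuration. -/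
structure Cfg (p q r : ℕ) (V A : Subgroup G) (t : G) : Prop where
  elemV : IsElementaryAbelian p V
  elemA : IsElementaryAbelian q A
  hAV : A ≤ normalizer (V : Set G)
  htA : t ∈ normalizer (A : Set G)
  htV : t ∈ normalizer (V : Set G)
  ordt : orderOf t = r
  qp : q ≠ p
  rp : r ≠ p
  rq : r ≠ q
  fix : ∀ x ∈ V, t * x = x * t → x ≠ 1 → ∀ y ∈ V, t * y = y * t → y ∈ zpowers x

/-- A hyperplane of `A` occurring in `V`. -/
def Hyp' (q : ℕ) (V A U : Subgroup G) : Prop :=
  U ≤ A ∧ Nat.card U * q = Nat.card A ∧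
    ∃ v ∈ V, U ≤ centralizer ({v} : Set G) ∧ ¬ A ≤ centralizer ({v} : Set G)

/-- Such a hyperplane not containing `⁅A, t⁆`. -/
def Good (q : ℕ) (V A : Subgroup G) (t : G) (U : Subgroup G) : Prop :=
  Hyp' q V A U ∧ ¬ ⁅A, zpowers t⁆ ≤ U

theorem hyp'_conj {q : ℕ} {V A U : Subgroup G} {g : G} (hgA : g ∈ normalizer (A : Set G))
    (hgV : g ∈ normalizer (V : Set G)) (h : Hyp' q V A U) : Hyp' q V A (MulAut.conj g • U) := by
  obtain ⟨hUA, hc, v, hv, hUv, hAv⟩ := h
  refine ⟨(conj_smul_mono g hUA).trans (conj_smul_self_of_mem_normalizer hgA).le,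
    by rw [card_conj_smul, hc], g * v * g⁻¹, normalizer_conj_mem hgV hv, ?_, fun hle => hAv fun a ha => ?_⟩
  · rw [conj_smul_le_iff]
    intro x hx
    rw [mem_centralizer_singleton_iff]
    calc g * x * g⁻¹ * (g * v * g⁻¹) = g * (x * v) * g⁻¹ := by group
      _ = g * (v * x) * g⁻¹ := by rw [mem_centralizer_singleton_iff.1 (hUv hx)]
      _ = g * v * g⁻¹ * (g * x * g⁻¹) := by group
  · have h1 := mem_centralizer_singleton_iff.1 (hle (normalizer_conj_mem hgA ha))
    rw [mem_centralizer_singleton_iff]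
    calc a * v = g⁻¹ * (g * a * g⁻¹ * (g * v * g⁻¹)) * g := by group
      _ = g⁻¹ * (g * v * g⁻¹ * (g * a * g⁻¹)) * g := by rw [h1]
      _ = v * a := by group

theorem good_conj_t {q r p : ℕ} {V A U : Subgroup G} {t : G} (cfg : Cfg p q r V A t) (i : ℕ)
    (h : Good q V A t U) : Good q V A t (MulAut.conj (t ^ i) • U) := by
  refine ⟨hyp'_conj (pow_mem cfg.htA i) (pow_mem cfg.htV i) h.1, fun hle => h.2 ?_⟩
  have hn : t ^ i ∈ normalizer ((⁅A, zpowers t⁆ : Subgroup G) : Set G) :=
    normalizer_le_normalizer_commutator A (zpowers t)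
      ⟨pow_mem cfg.htA i, pow_mem (le_normalizer (mem_zpowers t)) i⟩
  rw [← conj_smul_self_of_mem_normalizer hn] at hle
  have h1 := conj_smul_mono (t ^ i)⁻¹ hle
  rwa [conj_smul_conj_smul, conj_smul_conj_smul, inv_mul_cancel, map_one, one_smul, one_smul] at h1

/-- In a `t`-fixed abelian group, a subgroup containing `⁅A, t⁆` is normalised by `t`. -/
theorem mem_normalizer_of_commutator_le {A U : Subgroup G} {t : G} (hUA : U ≤ A)
    (h : ⁅A, zpowers t⁆ ≤ U) : t ∈ normalizer (U : Set G) := by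
  refine mem_normalizer_of_conj_mem fun x hx => ?_
  have h1 : ⁅x, t⁆ ∈ U := h (commutator_mem_commutator (hUA hx) (mem_zpowers t))
  have h2 : t * x * t⁻¹ = ⁅x, t⁆⁻¹ * x := by rw [commutatorElement_def]; group
  rw [h2]
  exact mul_mem (inv_mem h1) hx

variable {p q r : ℕ} [hp : Fact p.Prime] [hq : Fact q.Prime] [hr : Fact r.Prime]
  {V A : Subgroup G} {t : G}

theorem card_elem_coprime {X : Subgroup G} {a b : ℕ} [ha : Fact a.Prime] (hb : b.Prime)
    (hX : IsElementaryAbelian a X) (hne : b ≠ a) : b.Coprime (Nat.card X) := by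
  obtain ⟨k, hk⟩ := (CfsgLib.PGroup.elemAb_isPGroup hX).exists_card_eq
  rw [hk]
  exact Nat.Coprime.pow_right k ((Nat.coprime_primes hb ha.out).2 hne)

theorem pow_mem_normalizer_imp (cfg : Cfg p q r V A t) {U : Subgroup G} {i : ℕ} (hi : ¬ r ∣ i)
    (h : t ^ i ∈ normalizer (U : Set G)) : t ∈ normalizer (U : Set G) := by
  have hco : i.Coprime (orderOf t) := by
    rw [cfg.ordt]; exact (hr.out.coprime_iff_not_dvd.2 hi).symm
  obtain ⟨m, hm⟩ := exists_pow_eq_self_of_coprime hco
  exact hm ▸ pow_mem h m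

theorem Cfg.comm (cfg : Cfg p q r V A t) : ∀ a ∈ A, ∀ b ∈ A, a * b = b * a := fun _ ha _ hb =>
  CfsgLib.PGroup.elemAb_comm cfg.elemA ha hb

theorem Cfg.coprime_of_le (cfg : Cfg p q r V A t) {X : Subgroup G} (hX : X ≤ A) :
    (Nat.card X).Coprime p :=
  ((card_elem_coprime (a := q) hp.out cfg.elemA (Ne.symm cfg.qp)).coprime_dvd_right
    (card_dvd_of_le hX)).symm

theorem Cfg.eq_one_of_pow (cfg : Cfg p q r V A t) {x : V} {n : ℕ} (hn : n.Coprime p) (hx : x ^ n = 1) :
    x = 1 :=
  orderOf_eq_one_iff.1 (Nat.eq_one_of_dvd_coprimes hn (orderOf_dvd_of_pow_eq_one hx)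
    (orderOf_dvd_of_pow_eq_one (Subtype.ext (by
      rw [Subgroup.coe_pow, Subgroup.coe_one]; exact cfg.elemV.2 x x.2))))

section Psi

variable [IsMulCommutative V]

/-- `N_U ^ q / N_A`. -/
noncomputable def psi (cfg : Cfg p q r V A t) {U : Subgroup G} (hUA : U ≤ A) : V →* V :=
  nrm U (hUA.trans cfg.hAV) ^ q / nrm A cfg.hAV

theorem psi_apply (cfg : Cfg p q r V A t) {U : Subgroup G} (hUA : U ≤ A) (v : V) :
    psi cfg hUA v = nrm U (hUA.trans cfg.hAV) v ^ q / nrm A cfg.hAV v := by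
  simp [psi]

theorem psi_eq_one (cfg : Cfg p q r V A t) {W W' : Subgroup G} (hW : Hyp' q V A W)
    (hW' : Hyp' q V A W') (hne : W ≠ W') (hWA : W ≤ A) {v : V}
    (hv : ∀ x ∈ W', x * (v : G) = v * x) : psi cfg hWA v = 1 := by
  set w := nrm W (hWA.trans cfg.hAV) v with hw
  have hsup : W ⊔ W' = A := by
    refine eq_of_le_of_card_ge (sup_le hWA hW'.1) ?_
    have hlt : Nat.card W < Nat.card ↥(W ⊔ W') := by
      refine lt_of_le_of_ne (card_le_of_le le_sup_left) fun e => hne ?_
      have h1 : W = W ⊔ W' := eq_of_le_of_card_ge le_sup_left e.ge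
      have h2 : W' ≤ W := h1.symm ▸ le_sup_right
      exact (eq_of_le_of_card_ge h2
        (Nat.eq_of_mul_eq_mul_right hq.out.pos (hW.2.1.trans hW'.2.1.symm)).le).symm
    obtain ⟨a, ha⟩ := ((CfsgLib.PGroup.elemAb_isPGroup cfg.elemA).to_le hWA).exists_card_eq
    obtain ⟨b, hb⟩ := ((CfsgLib.PGroup.elemAb_isPGroup cfg.elemA).to_le (sup_le hWA hW'.1)).exists_card_eq
    rw [ha, hb] at hlt
    have := (Nat.pow_lt_pow_iff_right hq.out.one_lt).1 hlt
    rw [← hW.2.1, ha, hb, ← pow_succ]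
    exact Nat.pow_le_pow_right hq.out.pos this
  have hfix : ∀ x ∈ A, x * (w : G) = w * x := by
    have hle : A ≤ centralizer ({(w : G)} : Set G) := hsup ▸ sup_le
      (fun x hx => mem_centralizer_singleton_iff.2 (commute_of_act_eq (act_nrm (hWA.trans cfg.hAV) hx v)))
      (fun x hx => mem_centralizer_singleton_iff.2 (by
        refine commute_of_act_eq (hx := cfg.hAV (hW'.1 hx)) ?_
        rw [hw, act_nrm_of_commute _ _ (fun y hy => cfg.comm x (hW'.1 hx) y (hWA hy))]
        congr 1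
        exact Subtype.ext (mul_inv_eq_iff_eq_mul.2 (hv x hx))))
    exact fun x hx => mem_centralizer_singleton_iff.1 (hle hx)
  have h1 := nrm_of_fixed cfg.hAV hfix
  have h2 : nrm A cfg.hAV w = nrm A cfg.hAV v ^ Nat.card W := by
    have := Fintype.ofFinite W
    rw [hw, nrm_apply W, map_prod, Finset.prod_congr rfl (fun x _ => nrm_act cfg.hAV (hWA x.2) v),
      Finset.prod_const, Finset.card_univ, Nat.card_eq_fintype_card]
  refine cfg.eq_one_of_pow (cfg.coprime_of_le hWA) ?_
  rw [psi_apply, div_pow, ← h2, h1, ← pow_mul, mul_comm q, hW.2.1, div_self']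

theorem psi_ne_one (cfg : Cfg p q r V A t) {U : Subgroup G} (hUA : U ≤ A)
    (hUc : Nat.card U * q = Nat.card A) {v : V} (hv : ∀ x ∈ U, x * (v : G) = v * x)
    (hAv : ¬ A ≤ centralizer ({(v : G)} : Set G)) : psi cfg hUA v ≠ 1 := by
  intro heq
  rw [psi_apply, div_eq_one, nrm_of_fixed _ hv, ← pow_mul, hUc] at heq
  refine hAv fun a ha => mem_centralizer_singleton_iff.2 (commute_of_act_eq (hx := cfg.hAV ha) ?_)
  have h1 := act_nrm cfg.hAV ha v
  rw [← heq] at h1
  rw [← mul_inv_eq_one]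
  refine cfg.eq_one_of_pow (cfg.coprime_of_le le_rfl) ?_
  rw [mul_pow, inv_pow, show act a (cfg.hAV ha) v ^ Nat.card A = act a (cfg.hAV ha) (v ^ Nat.card A) from
    (map_pow (MonoidHom.mk' (act a (cfg.hAV ha)) (act_mul a (cfg.hAV ha))) v _).symm, h1, mul_inv_cancel]

theorem act_psi (cfg : Cfg p q r V A t) {U : Subgroup G} (hUA : U ≤ A) {a : G} (ha : a ∈ A) (v : V) :
    psi cfg hUA (act a (cfg.hAV ha) v) = act a (cfg.hAV ha) (psi cfg hUA v) := by
  let α : V →* V := MonoidHom.mk' (act a (cfg.hAV ha)) (act_mul a (cfg.hAV ha))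
  show psi cfg hUA (α v) = α (psi cfg hUA v)
  rw [psi_apply, psi_apply, map_div, map_pow]
  show nrm U _ (act a (cfg.hAV ha) v) ^ q / nrm A _ (act a (cfg.hAV ha) v) =
    (act a (cfg.hAV ha) (nrm U (hUA.trans cfg.hAV) v)) ^ q / act a (cfg.hAV ha) (nrm A cfg.hAV v)
  rw [act_nrm_of_commute _ (cfg.hAV ha) (fun y hy => cfg.comm a ha y (hUA hy)),
    act_nrm_of_commute _ (cfg.hAV ha) (fun y hy => cfg.comm a ha y hy)]

/-- The product over the `t`-orbit. -/
noncomputable def orbitProd (cfg : Cfg p q r V A t) (v : V) : V :=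
  ∏ i ∈ Finset.range r, act (t ^ i) (pow_mem cfg.htV i) v

theorem orbitProd_commute (cfg : Cfg p q r V A t) (v : V) :
    t * (orbitProd cfg v : G) = orbitProd cfg v * t := by
  let f : ℕ → V := fun i => act (t ^ i) (pow_mem cfg.htV i) v
  refine commute_of_act_eq (hx := cfg.htV) ?_
  show act t cfg.htV (∏ i ∈ Finset.range r, f i) = ∏ i ∈ Finset.range r, f i
  rw [act_prod]
  have h1 : ∀ i, act t cfg.htV (f i) = f (i + 1) := fun i => by
    show act t _ (act (t ^ i) _ _) = act (t ^ (i + 1)) _ _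
    rw [act_act]; simp only [act, pow_succ']
  rw [Finset.prod_congr rfl fun i _ => h1 i]
  have h2 := Finset.prod_range_succ' f r
  have h3 := Finset.prod_range_succ f r
  rw [h3, show f r = f 0 by
    show act (t ^ r) _ _ = act (t ^ 0) _ _
    simp only [act, ← cfg.ordt, pow_orderOf_eq_one, pow_zero]] at h2
  exact (mul_right_cancel h2).symm

theorem act_pow_fixed (cfg : Cfg p q r V A t) {U : Subgroup G} {v : V}
    (hv : ∀ x ∈ U, x * (v : G) = v * x) (i : ℕ) :
    ∀ x ∈ MulAut.conj (t ^ i) • U, x * (act (t ^ i) (pow_mem cfg.htV i) v : G) =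
      act (t ^ i) (pow_mem cfg.htV i) v * x := by
  intro x hx
  rw [mem_conj_smul_iff] at hx
  show x * (t ^ i * v * (t ^ i)⁻¹) = t ^ i * v * (t ^ i)⁻¹ * x
  calc x * (t ^ i * v * (t ^ i)⁻¹) = t ^ i * ((t ^ i)⁻¹ * x * t ^ i * v) * (t ^ i)⁻¹ := by group
    _ = t ^ i * (v * ((t ^ i)⁻¹ * x * t ^ i)) * (t ^ i)⁻¹ := by rw [hv _ hx]
    _ = _ := by group

theorem psi_orbitProd (cfg : Cfg p q r V A t) {U : Subgroup G} (hU : Hyp' q V A U) (hUA : U ≤ A)
    (htU : t ∉ normalizer (U : Set G)) {v : V} (hv : ∀ x ∈ U, x * (v : G) = v * x) :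
    psi cfg hUA (orbitProd cfg v) = psi cfg hUA v := by
  rw [orbitProd, map_prod, Finset.prod_eq_single_of_mem 0 (Finset.mem_range.2 hr.out.pos)]
  · congr 1
    ext
    simp [act]
  intro i hi hi0
  refine psi_eq_one cfg hU (hyp'_conj (pow_mem cfg.htA i) (pow_mem cfg.htV i) hU) (fun e => htU ?_) hUA
    (act_pow_fixed cfg hv i)
  refine pow_mem_normalizer_imp cfg (i := i) (fun hd => ?_) (mem_normalizer_iff_conj_smul.2 e.symm)
  have h5 := Nat.le_of_dvd (Nat.pos_of_ne_zero hi0) hd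
  have h6 := Finset.mem_range.1 hi
  omega

/-- A fixed point of `t` marking a good hyperplane. -/
theorem exists_marker (cfg : Cfg p q r V A t) {U : Subgroup G} (hU : Good q V A t U) :
    ∃ s : V, t * (s : G) = s * t ∧ psi cfg hU.1.1 s ≠ 1 ∧
      ∀ U', ∀ hU' : Good q V A t U', (∀ i : ℕ, U' ≠ MulAut.conj (t ^ i) • U) →
        psi cfg hU'.1.1 s = 1 := by
  obtain ⟨⟨hUA, hUc, v₀, hv₀, hUv, hAv⟩, hUt⟩ := hU
  have hUhyp : Hyp' q V A U := ⟨hUA, hUc, v₀, hv₀, hUv, hAv⟩
  by_cases htU : t ∈ normalizer (U : Set G)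
  · -- a fixed point inside the commutator with `A`
    set H := V ⊓ centralizer (U : Set G) with hH
    set M₀ := ⁅H, A⁆ with hM₀
    have hUle : A ≤ normalizer (U : Set G) := fun a ha => centralizer_le_normalizer _
      (mem_centralizer_iff.2 fun x hx => cfg.comm x (hUA hx) a ha)
    have hAH : A ≤ normalizer (H : Set G) :=
      le_normalizer_inf cfg.hAV (hUle.trans (normalizer_le_normalizer_centralizer U))
    have htH : zpowers t ≤ normalizer (H : Set G) :=
      le_normalizer_inf (zpowers_le.2 cfg.htV) (zpowers_le.2 (normalizer_le_normalizer_centralizer U htU))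
    have hHc : IsMulCommutative H := ⟨⟨fun a b => Subtype.ext
      (CfsgLib.PGroup.elemAb_comm cfg.elemV a.2.1 b.2.1)⟩⟩
    have hM₀H : M₀ ≤ H := commutator_le_of_le_normalizer hAH
    have hcopH : (Nat.card A).Coprime (Nat.card H) := by
      obtain ⟨k, hk⟩ := ((CfsgLib.PGroup.elemAb_isPGroup cfg.elemV).to_le (inf_le_left : H ≤ V)).exists_card_eq
      rw [hk]
      exact (cfg.coprime_of_le (le_refl A)).pow_right k
    have hM₀fix : ∀ x ∈ M₀, (∀ a ∈ A, a * x = x * a) → x = 1 := fun x hx hc => by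
      have h := inf_centralizer_inf_commutator A H hAH hcopH
      exact mem_bot.1 (h ▸ ⟨⟨hM₀H hx, mem_centralizer_iff.2 hc⟩, hx⟩)
    by_cases hbot : M₀ ⊓ centralizer (zpowers t : Set G) = ⊥
    · exfalso
      -- then `⁅A, t⁆` and `U` centralise `M₀`
      set E := zpowers t with hE
      set U₁ := ⁅A, E⁆ with hU₁
      have hEA : E ≤ normalizer (A : Set G) := zpowers_le.2 cfg.htA
      have hU₁A : U₁ ≤ A := commutator_le_of_le_normalizer hEA
      have hAcm : IsMulCommutative A := cfg.elemA.1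
      have hE' : Nat.card E = r := by rw [hE, Nat.card_zpowers, cfg.ordt]
      have hcopEA : (Nat.card E).Coprime (Nat.card A) := by
        rw [hE']; exact card_elem_coprime hr.out cfg.elemA cfg.rq
      have hfpf : ∀ e ∈ E, e ≠ 1 → U₁ ⊓ centralizer ({e} : Set G) = ⊥ := by
        intro e he he1
        have hgen : zpowers e = E := eq_of_le_of_card_ge (zpowers_le.2 he) (by
          rw [hE', Nat.card_zpowers]
          refine le_of_eq ?_
          exact ((Nat.dvd_prime hr.out).1 (hE' ▸ Subgroup.orderOf_dvd_natCard _ he)).resolve_left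
            (fun h => he1 (orderOf_eq_one_iff.1 h)) |>.symm)
        rw [eq_bot_iff]
        rintro x ⟨hx, hxe⟩
        have hle : E ≤ centralizer ({x} : Set G) := hgen ▸ zpowers_le.2
          (mem_centralizer_singleton_iff.2 (mem_centralizer_singleton_iff.1 hxe).symm)
        exact inf_centralizer_inf_commutator E A hEA hcopEA ▸ ⟨⟨hU₁A hx, mem_centralizer_iff.2
          fun y hy => mem_centralizer_singleton_iff.1 (hle hy)⟩, hx⟩
      have hU₁n : Group.IsNilpotent U₁ :=
        ((CfsgLib.PGroup.elemAb_isPGroup cfg.elemA).to_le hU₁A).isNilpotent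
      have hAM : A ≤ normalizer (M₀ : Set G) := le_normalizer_commutator_right hAH
      have hEM : E ≤ normalizer (M₀ : Set G) := (le_inf htH hEA).trans (normalizer_le_normalizer_commutator _ _)
      have hsol : Group.IsSolvable M₀ := isSolvable_of_le
        (Group.isSolvable_of_comm fun a b => hHc.is_comm.comm a b) hM₀H
      have hcop : (Nat.card M₀).Coprime (Nat.card U₁ * Nat.card E) := by
        obtain ⟨k, hk⟩ :=
          ((CfsgLib.PGroup.elemAb_isPGroup cfg.elemV).to_le (hM₀H.trans inf_le_left)).exists_card_eq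
        rw [hk]
        refine Nat.Coprime.pow_left k (((cfg.coprime_of_le hU₁A).symm).mul_right ?_)
        rw [hE']; exact (Nat.coprime_primes hp.out hr.out).2 (Ne.symm cfg.rp)
      have h1 : M₀ ≤ centralizer (U₁ : Set G) := CfsgLib.OddLocal.BG.frobenius_kernel_centralizes hU₁n
        (le_normalizer_commutator_right hEA) hfpf (hU₁A.trans hAM) hEM hsol hcop hbot
      have hAgen : U ⊔ U₁ = A := by
        refine eq_of_le_of_card_ge (sup_le hUA hU₁A) ?_
        have hlt : U < U ⊔ U₁ := lt_of_le_of_ne le_sup_left fun e => hUt (e ▸ le_sup_right)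
        obtain ⟨a, ha⟩ := ((CfsgLib.PGroup.elemAb_isPGroup cfg.elemA).to_le hUA).exists_card_eq
        obtain ⟨b, hb⟩ := ((CfsgLib.PGroup.elemAb_isPGroup cfg.elemA).to_le (sup_le hUA hU₁A)).exists_card_eq
        have h3 : Nat.card U < Nat.card ↥(U ⊔ U₁) :=
          lt_of_le_of_ne (card_le_of_le hlt.le) fun e => hlt.ne (eq_of_le_of_card_ge hlt.le e.ge)
        rw [ha, hb] at h3
        have := (Nat.pow_lt_pow_iff_right hq.out.one_lt).1 h3
        rw [← hUc, ha, hb, ← pow_succ]
        exact Nat.pow_le_pow_right hq.out.pos this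
      have hM1 : ∀ x ∈ M₀, x = 1 := fun x hx => hM₀fix x hx fun a ha => by
        have hle : A ≤ centralizer ({x} : Set G) := hAgen ▸ sup_le
          (fun u hu => mem_centralizer_singleton_iff.2 (mem_centralizer_iff.1 (hM₀H hx).2 u hu))
          (fun u hu => mem_centralizer_singleton_iff.2 (mem_centralizer_iff.1 (h1 hx) u hu))
        exact mem_centralizer_singleton_iff.1 (hle ha)
      apply hAv
      intro a ha
      have hvH : v₀ ∈ H := ⟨hv₀, mem_centralizer_iff.2 fun u hu => mem_centralizer_singleton_iff.1 (hUv hu)⟩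
      exact mem_centralizer_singleton_iff.2
        (commutatorElement_eq_one_iff_mul_comm.1 (hM1 _ (commutator_mem_commutator hvH ha))).symm
    obtain ⟨x, ⟨hxM, hxt⟩, hx1⟩ := (Subgroup.bot_or_exists_ne_one _).resolve_left hbot
    have hxU : ∀ u ∈ U, u * x = x * u := fun u hu => mem_centralizer_iff.1 (hM₀H hxM).2 u hu
    refine ⟨⟨x, (hM₀H hxM).1⟩, mem_centralizer_iff.1 hxt t (mem_zpowers t),
      psi_ne_one cfg hUA hUc hxU fun hA' => hx1 (hM₀fix x hxM fun a ha =>
        mem_centralizer_singleton_iff.1 (hA' ha)),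
      fun U' hU' hne => psi_eq_one cfg hU'.1 hUhyp
        (fun e => hne 0 (by rw [pow_zero, map_one, one_smul]; exact e)) hU'.1.1 hxU⟩
  · -- a product over the orbit
    have hv : ∀ x ∈ U, x * ((⟨v₀, hv₀⟩ : V) : G) = (⟨v₀, hv₀⟩ : V) * x := fun x hx =>
      mem_centralizer_singleton_iff.1 (hUv hx)
    refine ⟨orbitProd cfg ⟨v₀, hv₀⟩, orbitProd_commute cfg _, ?_, fun U' hU' hne => ?_⟩
    · rw [psi_orbitProd cfg hUhyp hUA htU hv]
      exact psi_ne_one cfg hUA hUc hv hAv
    · rw [orbitProd, map_prod]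
      exact Finset.prod_eq_one fun i _ => psi_eq_one cfg hU'.1
        (hyp'_conj (pow_mem cfg.htA i) (pow_mem cfg.htV i) hUhyp) (hne i) hU'.1.1 (act_pow_fixed cfg hv i)

end Psi

/-- The good hyperplanes form one orbit. -/
theorem good_orbit (cfg : Cfg p q r V A t) {U U' : Subgroup G} (hU : Good q V A t U)
    (hU' : Good q V A t U') : ∃ i : ℕ, U' = MulAut.conj (t ^ i) • U := by
  have : IsMulCommutative V := cfg.elemV.1
  by_contra hne
  push Not at hne
  obtain ⟨s₀, hs₀t, hs₀, hs₀'⟩ := exists_marker cfg hU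
  obtain ⟨s', hs't, hs', -⟩ := exists_marker cfg hU'
  have h1 : (s₀ : G) ≠ 1 := fun h1 => hs₀ (by rw [show s₀ = 1 from Subtype.ext h1, map_one])
  obtain ⟨n, hn⟩ := mem_powers_iff_mem_zpowers.2 (cfg.fix s₀ s₀.2 hs₀t h1 s' s'.2 hs't)
  have he : s' = s₀ ^ n := Subtype.ext (by rw [Subgroup.coe_pow]; exact hn.symm)
  exact hs' (by rw [he, map_pow, hs₀' U' hU' hne, one_pow])

/-- A moved hyperplane forces `q ∣ p - 1`. -/
theorem dvd_pred_of_moved (cfg : Cfg p q r V A t) {U : Subgroup G} (hU : Hyp' q V A U)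
    (htU : t ∉ normalizer (U : Set G)) : q ∣ p - 1 := by
  have : IsMulCommutative V := cfg.elemV.1
  obtain ⟨hUA, hUc, v₀, hv₀, hUv, hAv⟩ := hU
  have hUhyp : Hyp' q V A U := ⟨hUA, hUc, v₀, hv₀, hUv, hAv⟩
  obtain ⟨a, ha, hav⟩ := SetLike.not_le_iff_exists.1 hAv
  set v : V := ⟨v₀, hv₀⟩
  have hv : ∀ x ∈ U, x * (v : G) = v * x := fun x hx => mem_centralizer_singleton_iff.1 (hUv hx)
  set v' := act a (cfg.hAV ha) v
  have hv' : ∀ x ∈ U, x * (v' : G) = v' * x := fun x hx => by
    show x * (a * v₀ * a⁻¹) = a * v₀ * a⁻¹ * x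
    have hc : x * a = a * x := cfg.comm x (hUA hx) a ha
    have hc' : x * a⁻¹ = a⁻¹ * x := (show Commute x a from hc).inv_right.eq
    calc x * (a * v₀ * a⁻¹) = (x * a) * v₀ * a⁻¹ := by group
      _ = a * (x * v₀) * a⁻¹ := by rw [hc]; group
      _ = a * v₀ * (x * a⁻¹) := by rw [hv x hx]; group; rfl
      _ = _ := by rw [hc']; group
  set w := psi cfg hUA v with hw
  have hw1 : w ≠ 1 := psi_ne_one cfg hUA hUc hv hAv
  have hs1 : (orbitProd cfg v : G) ≠ 1 := fun h => hw1 (by
    rw [hw, ← psi_orbitProd cfg hUhyp hUA htU hv, show orbitProd cfg v = 1 from Subtype.ext h, map_one])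
  obtain ⟨n, hn⟩ := mem_powers_iff_mem_zpowers.2 (cfg.fix _ (orbitProd cfg v).2 (orbitProd_commute cfg v)
    hs1 _ (orbitProd cfg v').2 (orbitProd_commute cfg v'))
  have he : orbitProd cfg v' = orbitProd cfg v ^ n := Subtype.ext (by rw [Subgroup.coe_pow]; exact hn.symm)
  have haw : act a (cfg.hAV ha) w = w ^ n := by
    rw [hw, ← act_psi cfg hUA ha, ← psi_orbitProd cfg hUhyp hUA htU hv', he, map_pow,
      psi_orbitProd cfg hUhyp hUA htU hv]
  let α : V →* V := MonoidHom.mk' (act a (cfg.hAV ha)) (act_mul a (cfg.hAV ha))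
  have hpow : ∀ k : ℕ, act (a ^ k) (pow_mem (cfg.hAV ha) k) w = w ^ (n ^ k) := by
    intro k
    induction k with
    | zero => ext; simp [act]
    | succ k ih =>
      have e : act (a ^ (k + 1)) (pow_mem (cfg.hAV ha) (k + 1)) w =
          α (act (a ^ k) (pow_mem (cfg.hAV ha) k) w) := by
        show _ = act a (cfg.hAV ha) (act (a ^ k) (pow_mem (cfg.hAV ha) k) w)
        rw [act_act]; simp only [act, pow_succ']
      rw [e, ih, map_pow, show α w = w ^ n from haw, ← pow_mul, pow_succ, mul_comm]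
  have hwo : orderOf w = p := orderOf_eq_prime (Subtype.ext (by
    rw [Subgroup.coe_pow, Subgroup.coe_one]; exact cfg.elemV.2 w w.2)) hw1
  have hnq : (n : ZMod p) ^ q = 1 := by
    have h := hpow q
    rw [show act (a ^ q) (pow_mem (cfg.hAV ha) q) w = w ^ 1 by
      ext; simp [act, cfg.elemA.2 a ha]] at h
    rw [← Nat.cast_pow, ← Nat.cast_one, ZMod.natCast_eq_natCast_iff, ← hwo]
    exact pow_eq_pow_iff_modEq.1 h.symm
  have hn1 : (n : ZMod p) ≠ 1 := by
    rw [← Nat.cast_one, Ne, ZMod.natCast_eq_natCast_iff, ← hwo]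
    intro h
    have hfix : act a (cfg.hAV ha) w = w := by rw [haw, pow_eq_pow_iff_modEq.2 h, pow_one]
    -- `a` then fixes `v`
    refine hav (mem_centralizer_singleton_iff.2 (commute_of_act_eq (v := v) (hx := cfg.hAV ha) ?_))
    rw [hw, psi_apply, nrm_of_fixed _ hv, ← pow_mul, hUc] at hfix
    change α (v ^ Nat.card A / nrm A cfg.hAV v) = _ at hfix
    rw [map_div, map_pow, show α (nrm A cfg.hAV v) = nrm A cfg.hAV v from act_nrm cfg.hAV ha v,
      div_left_inj] at hfix
    show α v = v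
    rw [← div_eq_one]
    exact cfg.eq_one_of_pow (cfg.coprime_of_le le_rfl) (by rw [div_pow, hfix, div_self'])
  have hn0 : (n : ZMod p) ≠ 0 := fun h => by
    rw [h, zero_pow hq.out.ne_zero] at hnq; exact zero_ne_one hnq
  rw [← orderOf_eq_prime hnq hn1]
  exact orderOf_dvd_of_pow_eq_one (ZMod.pow_card_sub_one_eq_one hn0)

end CfsgLib.OddLocal.PLen
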